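import Cfsg.Agent.ClassOrder1.Matrix
import Cfsg.Agent.PrimeGraphPSp.Basic
import Cfsg.Agent.Fus2.SpecPSp

/-!
The element orders of `PSp₄(q)` (helper52).
-/

set_option autoImplicit false

namespace Cfsg.Agent.Spec4

open Polynomial Cfsg Cfsg.Agent.Symplectic Cfsg.Agent.KS58

/-- `n`, halved in odd characteristic. -/
def half (q n : ℕ) : ℕ := n / Nat.gcd 2 (q - 1)

/-- The element orders of `PSp₄(q)`, `q` a power of the prime `p`. -/
def spec4 (q p : ℕ) : Set ℕ :=
  {m | m ∣ half q (q ^ 2 + 1) ∨ m ∣ half q (q ^ 2 - 1) ∨ m ∣ p * (q + 1) ∨ m ∣ p * (q - 1) ∨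
    (p ≤ 3 ∧ m ∣ p ^ 2)}

theorem mem_spec4_of_dvd {q p m n : ℕ} (hn : n ∈ spec4 q p) (hm : m ∣ n) : m ∈ spec4 q p := by
  rcases hn with h | h | h | h | ⟨h0, h⟩
  exacts [Or.inl (hm.trans h), Or.inr (Or.inl (hm.trans h)), Or.inr (Or.inr (Or.inl (hm.trans h))),
    Or.inr (Or.inr (Or.inr (Or.inl (hm.trans h)))), Or.inr (Or.inr (Or.inr (Or.inr ⟨h0, hm.trans h⟩)))]

/-- Arithmetic of the halved orders. -/
theorem half_mul {q p f : ℕ} (hp : p.Prime) (hf : 0 < f) (hq : q = p ^ f) :
    (p = 2 ∧ half q (q ^ 2 + 1) = q ^ 2 + 1 ∧ half q (q ^ 2 - 1) = q ^ 2 - 1) ∨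
    (p ≠ 2 ∧ Odd q ∧ 2 * half q (q ^ 2 + 1) = q ^ 2 + 1 ∧ 2 * half q (q ^ 2 - 1) = q ^ 2 - 1) := by
  rcases hp.eq_two_or_odd' with h | h
  · refine Or.inl ⟨h, ?_⟩
    have hev : Even q := by rw [hq, h]; exact (Nat.even_pow' hf.ne').2 even_two
    have hg : Nat.gcd 2 (q - 1) = 1 := by
      refine Nat.coprime_two_left.2 (Nat.Even.sub_odd ?_ hev odd_one)
      rw [hq]; exact Nat.one_le_pow _ _ hp.pos
    simp [half, hg]
  · refine Or.inr ⟨by rintro rfl; exact Nat.not_odd_iff_even.2 even_two h, hq ▸ h.pow, ?_⟩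
    have hodd : Odd q := hq ▸ h.pow
    have hg : Nat.gcd 2 (q - 1) = 2 := Nat.gcd_eq_left (Nat.Odd.sub_odd hodd odd_one).two_dvd
    have h2 : Odd (q ^ 2) := hodd.pow
    exact ⟨by rw [half, hg]; exact Nat.mul_div_cancel' (h2.add_one).two_dvd,
      by rw [half, hg]; exact Nat.mul_div_cancel' (Nat.Odd.sub_odd h2 odd_one).two_dvd⟩

section Upper

variable {F : Type*} [Field F] [Fintype F]

/-- Every symplectic matrix in dimension four has a power `± 1` with exponent in the list. -/
theorem exists_pow_pm (p : ℕ) [Fact p.Prime] [CharP F p] (g : Sp 2 F) :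
    ∃ N ∈ spec4 (Fintype.card F) p, (g : Matrix (Fin 2 ⊕ Fin 2) (Fin 2 ⊕ Fin 2) F) ^ N = 1 ∨
      (g : Matrix (Fin 2 ⊕ Fin 2) (Fin 2 ⊕ Fin 2) F) ^ N = -1 := by
  classical
  have hp : p.Prime := Fact.out
  set A : Matrix (Fin 2 ⊕ Fin 2) (Fin 2 ⊕ Fin 2) F := (g : Matrix (Fin 2 ⊕ Fin 2) (Fin 2 ⊕ Fin 2) F) with hAdef
  have hA : IsUnit A := (Group.isUnit g).map (Matrix.symplecticGroup (Fin 2) F).subtype
  have hs : A⁻¹.charpoly = A.charpoly := ClassOrder1.charpoly_inv_of_preserving A _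
    ((Matrix.isUnit_iff_isUnit_det _).2 (Matrix.isUnit_det_J (Fin 2) F)) (SymplecticGroup.mem_iff'.1 g.2)
  obtain ⟨f, -, hq⟩ := FiniteField.card F p
  set q := Fintype.card F with hqdef
  have hq1 : 1 < q := Fintype.one_lt_card
  haveI : CharP (AlgebraicClosure F) p := charP_of_injective_algebraMap (algebraMap F _).injective p
  let φ : AlgebraicClosure F →+* AlgebraicClosure F := iterateFrobenius (AlgebraicClosure F) p f
  have hφ : ∀ x, φ x = x ^ q := fun x => by rw [hq]; exact iterateFrobenius_def ..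
  set P := A.charpoly.map (algebraMap F (AlgebraicClosure F)) with hP
  have hPmonic : P.Monic := A.charpoly_monic.map _
  set S := P.roots with hS
  have hScard : S.card = 4 := by
    rw [hS, ← (IsAlgClosed.splits P).natDegree_eq_card_roots, hP, natDegree_map, Matrix.charpoly_natDegree_eq_dim]
    simp
  have hdet : A.det = 1 := SymplecticGroup.det_eq_one g.2
  have hS0 : (0 : AlgebraicClosure F) ∉ S := by
    intro h0
    rw [hS, mem_roots hPmonic.ne_zero, IsRoot, hP, eval_map, eval₂_at_zero, map_eq_zero] at h0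
    have h := Matrix.det_eq_sign_charpoly_coeff A
    rw [h0, mul_zero, hdet] at h
    exact one_ne_zero h
  have hprod : S.prod = 1 := by
    have h := Polynomial.Splits.coeff_zero_eq_prod_roots_of_monic (IsAlgClosed.splits P) hPmonic
    have hd := Matrix.det_eq_sign_charpoly_coeff A
    rw [hdet] at hd
    rw [← hS, hP, coeff_map, natDegree_map, Matrix.charpoly_natDegree_eq_dim] at h
    simp only [Fintype.card_sum, Fintype.card_fin] at h hd
    norm_num at h hd
    rw [← hd, map_one] at h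
    exact h.symm
  have hSinv : ∀ r, S.count r⁻¹ = S.count r := by
    have hmap : S.map (·⁻¹) = S := by
      have h1 : A.charpoly = C ((-1) ^ Fintype.card (Fin 2 ⊕ Fin 2) * A.det⁻¹) * A.charpoly.reverse := by
        conv_lhs => rw [← hs, Matrix.charpoly_inv A hA, ← Matrix.reverse_charpoly, Ring.inverse_eq_inv']
        rw [map_mul, map_pow, map_neg, map_one]
      have hc : (-1 : F) ^ Fintype.card (Fin 2 ⊕ Fin 2) * A.det⁻¹ ≠ 0 :=
        mul_ne_zero (pow_ne_zero _ (by simp)) (inv_ne_zero ((Matrix.isUnit_iff_isUnit_det A).mp hA).ne_zero)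
      have h2 := congrArg (fun R => (R.map (algebraMap F (AlgebraicClosure F))).roots) h1
      simp only [Polynomial.map_mul, map_C] at h2
      rw [← hP, ← hS, reverse, ← reflect_map,
        ← natDegree_map_eq_of_injective (algebraMap F (AlgebraicClosure F)).injective A.charpoly, ← hP, ← reverse,
        (IsAlgClosed.splits P).eq_prod_roots_of_monic hPmonic, ← hS,
        ClassOrder1.roots_smul_reverse_prod _ hS0 _ (by rwa [_root_.map_ne_zero])] at h2
      exact h2.symm
    intro r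
    conv_lhs => rw [← hmap]
    exact Multiset.count_map_eq_count' (·⁻¹) S inv_injective r
  have hSfr : S.map φ = S := by
    rw [hS, ← (IsAlgClosed.splits P).roots_map_of_injective φ.injective, hP, map_map]
    congr 2
    refine RingHom.ext fun x => ?_
    rw [RingHom.comp_apply, hφ, ← map_pow, hqdef, FiniteField.pow_card]
  have hSq : ∀ r ∈ S, r ^ q ∈ S := fun r hr => hφ r ▸ hSfr ▸ Multiset.mem_map_of_mem _ hr
  have hSi : ∀ r ∈ S, r⁻¹ ∈ S := fun r hr =>
    Multiset.count_pos.1 (by rw [hSinv]; exact Multiset.count_pos.2 hr)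
  have hne0 : ∀ r ∈ S, r ≠ 0 := fun r hr h => hS0 (h ▸ hr)
  have hqinj : ∀ x y : AlgebraicClosure F, x ^ q = y ^ q → x = y := fun x y h =>
    φ.injective (by rw [hφ, hφ, h])
  have h4 : ∀ T : Finset (AlgebraicClosure F), (∀ r ∈ T, r ∈ S) → T.card = 4 →
      (∀ r ∈ S, r ∈ T) ∧ ∀ r, S.count r ≤ 1 := by
    intro T hT hcard
    have h : T.val = S := Multiset.eq_of_le_of_card_le ((Multiset.le_iff_subset T.nodup).2 hT) (by
      rw [hScard]; exact hcard.ge)
    exact ⟨fun r hr => by rw [← h] at hr; exact hr, fun r => h ▸ Multiset.nodup_iff_count_le_one.1 T.nodup r⟩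
  have hone : ∀ (N e : ℕ), (∀ r ∈ S, r ^ N = 1) → (∀ r, S.count r ≤ p ^ e) → A ^ (N * p ^ e) = 1 := by
    intro N e h1 h2
    have := ClassOrder1.pow_eq_of_roots p A N e 1 (fun r hr => by rw [map_one]; exact h1 r hr) h2
    rwa [one_pow, map_one] at this
  by_cases hbig : ∃ r, 3 ≤ S.count r
  · -- all eigenvalues equal `± 1`
    obtain ⟨r, hr⟩ := hbig
    have hrS : r ∈ S := Multiset.count_pos.1 (by omega)
    have hrr : r⁻¹ = r := by
      by_contra hne
      have hle : Multiset.replicate (S.count r) r + Multiset.replicate (S.count r) r⁻¹ ≤ S := by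
        refine Multiset.le_iff_count.2 fun a => ?_
        rw [Multiset.count_add, Multiset.count_replicate, Multiset.count_replicate]
        split_ifs with h1 h2 h2
        · exact absurd (h2.trans h1.symm) hne
        · subst h1; simp
        · subst h2; simp [hSinv]
        · simp
      have := Multiset.card_le_card hle
      simp [hScard] at this
      omega
    have hr2 : r * r = 1 := by
      nth_rewrite 1 [← hrr]
      exact inv_mul_cancel₀ (hne0 r hrS)
    have hall : ∀ x ∈ S, x = r := by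
      obtain ⟨S', hS'⟩ := Multiset.le_iff_exists_add.1
        ((Multiset.le_count_iff_replicate_le (n := 3) (s := S) (a := r)).1 hr)
      have hc1 : S'.card = 1 := by
        have h := congrArg Multiset.card hS'
        rw [hScard, Multiset.card_add, Multiset.card_replicate] at h
        omega
      obtain ⟨x, rfl⟩ := Multiset.card_eq_one.1 hc1
      have hx : x = r := by
        rw [hS', Multiset.prod_add, Multiset.prod_replicate, Multiset.prod_singleton, pow_succ, pow_two, hr2,
          one_mul] at hprod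
        rw [← mul_left_cancel₀ (hne0 r hrS) (hprod.trans hr2.symm)]
      intro y hy
      rw [hS', Multiset.mem_add, Multiset.mem_singleton] at hy
      rcases hy with hy | hy
      · exact Multiset.eq_of_mem_replicate hy
      · exact hy.trans hx
    obtain ⟨c, hc, hcr⟩ : ∃ c : F, (c = 1 ∨ c = -1) ∧ algebraMap F (AlgebraicClosure F) c = r := by
      rcases mul_self_eq_one_iff.1 hr2 with h | h
      · exact ⟨1, Or.inl rfl, by rw [map_one, h]⟩
      · exact ⟨-1, Or.inr rfl, by rw [map_neg, map_one, h]⟩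
    have key : ∀ e, 4 ≤ p ^ e → p ^ e ∈ spec4 q p → ∃ N ∈ spec4 q p, A ^ N = 1 ∨ A ^ N = -1 := by
      intro e he hmem
      have h := ClassOrder1.pow_eq_of_roots p A 1 e c (fun x hx => by rw [pow_one, hcr, hall x hx])
        fun x => ((Multiset.count_le_card x _).trans_eq hScard).trans he
      rw [one_mul, map_pow] at h
      refine ⟨p ^ e, hmem, ?_⟩
      rcases hc with rfl | rfl
      · left; rw [h, map_one, one_pow]
      · rw [h, map_neg, map_one]; exact neg_one_pow_eq_or _ _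
    rcases le_or_gt p 3 with h3 | h3
    · exact key 2 (Nat.pow_le_pow_left hp.two_le 2) (Or.inr (Or.inr (Or.inr (Or.inr ⟨h3, dvd_rfl⟩))))
    · exact key 1 (by rw [pow_one]; omega) (Or.inr (Or.inr (Or.inl (by rw [pow_one]; exact dvd_mul_right _ _))))
  push_neg at hbig
  have hcount : ∀ r, S.count r ≤ p ^ 1 := fun r => by
    rw [pow_one]; exact (Nat.le_of_lt_succ (hbig r)).trans hp.two_le
  have hself : ∀ r ∈ S, r ^ q ≠ r → r ≠ r⁻¹ := fun r hr h h1 => by
    have hr1 : r * r = 1 := by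
      nth_rewrite 1 [h1]
      exact inv_mul_cancel₀ (hne0 r hr)
    rcases mul_self_eq_one_iff.1 hr1 with rfl | rfl
    · exact h (one_pow q)
    · refine h ?_
      rw [← map_one (algebraMap F (AlgebraicClosure F)), ← map_neg, ← map_pow, hqdef, FiniteField.pow_card]
  by_cases hgen : ∃ r ∈ S, r ^ q ≠ r ∧ r ^ q ≠ r⁻¹
  · -- an irreducible or twisted quadruple
    obtain ⟨r, hr, hr1, hr2⟩ := hgen
    have hrne := hself r hr hr1
    have hs : (r ^ q) ≠ (r ^ q)⁻¹ := fun h => hrne (hqinj _ _ (by rw [inv_pow]; exact h))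
    have hd1 : r ≠ (r ^ q)⁻¹ := fun h => hr2 (by rw [← inv_inv (r ^ q), ← h])
    have hd2 : r⁻¹ ≠ (r ^ q)⁻¹ := fun h => hr1 (inv_injective h).symm
    obtain ⟨hex, hnd⟩ := h4 {r, r⁻¹, r ^ q, (r ^ q)⁻¹} (fun x hx => by
        simp only [Finset.mem_insert, Finset.mem_singleton] at hx
        rcases hx with rfl | rfl | rfl | rfl
        exacts [hr, hSi _ hr, hSq _ hr, hSi _ (hSq _ hr)]) (by
      simp [hrne, hr1.symm, hr2.symm, hs, hd1, hd2])
    have hlist := hex _ (hSq _ (hSq _ hr))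
    simp only [Finset.mem_insert, Finset.mem_singleton] at hlist
    have hbad1 : (r ^ q) ^ q ≠ r ^ q := fun h => hr1 (hqinj _ _ h)
    have hbad2 : (r ^ q) ^ q ≠ (r ^ q)⁻¹ := fun h => hr2 (hqinj _ _ (by rw [h, inv_pow]))
    have hsq : r ^ (q ^ 2 - 1) = 1 ∨ r ^ (q ^ 2 + 1) = 1 := by
      rcases hlist with h | h | h | h
      · left
        refine mul_right_cancel₀ (hne0 r hr) ?_
        rw [one_mul, ← pow_succ, Nat.sub_add_cancel (Nat.one_le_pow _ _ (by omega)), pow_two, pow_mul, h]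
      · right
        rw [pow_succ, pow_two, pow_mul, h, inv_mul_cancel₀ (hne0 r hr)]
      · exact absurd h hbad1
      · exact absurd h hbad2
    have hN : ∀ N, N ∈ spec4 q p → (∃ c : F, (c = 1 ∨ c = -1) ∧ r ^ N = algebraMap F _ c) →
        ∃ N ∈ spec4 q p, A ^ N = 1 ∨ A ^ N = -1 := by
      rintro N hN ⟨c, hc, hrN⟩
      have hcq : c ^ q = c := by rw [hqdef, FiniteField.pow_card]
      have hci : c⁻¹ = c := by rcases hc with rfl | rfl <;> simp
      have h := ClassOrder1.pow_eq_of_roots p A N 0 c (fun x hx => by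
          have hx' := hex x hx
          simp only [Finset.mem_insert, Finset.mem_singleton] at hx'
          have h2 : (r ^ q) ^ N = algebraMap F _ c := by
            rw [← pow_mul, mul_comm, pow_mul, hrN, ← map_pow, hcq]
          rcases hx' with rfl | rfl | rfl | rfl
          · exact hrN
          · rw [inv_pow, hrN, ← map_inv₀, hci]
          · exact h2
          · rw [inv_pow, h2, ← map_inv₀, hci])
        fun x => by rw [pow_zero]; exact hnd x
      rw [pow_zero, mul_one, pow_one] at h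
      refine ⟨N, hN, ?_⟩
      rcases hc with rfl | rfl
      · left; rw [h, map_one]
      · right; rw [h, map_neg, map_one]
    have hsign : ∀ N, r ^ (2 * N) = 1 → ∃ c : F, (c = 1 ∨ c = -1) ∧ r ^ N = algebraMap F _ c := fun N h => by
      rw [two_mul, pow_add] at h
      rcases mul_self_eq_one_iff.1 h with h | h
      · exact ⟨1, Or.inl rfl, by rw [map_one, h]⟩
      · exact ⟨-1, Or.inr rfl, by rw [map_neg, map_one, h]⟩
    rcases half_mul hp f.pos hq with ⟨-, ha, hb⟩ | ⟨-, -, ha, hb⟩ <;> rcases hsq with h | h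
    · exact hN _ (Or.inr (Or.inl hb.symm.dvd)) ⟨1, Or.inl rfl, by rw [map_one, h]⟩
    · exact hN _ (Or.inl ha.symm.dvd) ⟨1, Or.inl rfl, by rw [map_one, h]⟩
    · exact hN _ (Or.inr (Or.inl dvd_rfl)) (hsign _ (by rw [hb, h]))
    · exact hN _ (Or.inl dvd_rfl) (hsign _ (by rw [ha, h]))
  push_neg at hgen
  have htyp : ∀ r ∈ S, r ^ (q - 1) = 1 ∨ r ^ (q + 1) = 1 := fun r hr => by
    by_cases h : r ^ q = r
    · left
      refine mul_right_cancel₀ (hne0 r hr) ?_
      rw [one_mul, ← pow_succ, Nat.sub_add_cancel hq1.le, h]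
    · right
      rw [pow_succ, hgen r hr h, inv_mul_cancel₀ (hne0 r hr)]
  by_cases hp1 : ∀ r ∈ S, r ^ (q + 1) = 1
  · refine ⟨(q + 1) * p ^ 1, ?_, Or.inl (hone _ 1 hp1 hcount)⟩
    rw [pow_one, mul_comm]; exact Or.inr (Or.inr (Or.inl dvd_rfl))
  by_cases hm1 : ∀ r ∈ S, r ^ (q - 1) = 1
  · refine ⟨(q - 1) * p ^ 1, ?_, Or.inl (hone _ 1 hm1 hcount)⟩
    rw [pow_one, mul_comm]; exact Or.inr (Or.inr (Or.inr (Or.inl dvd_rfl)))
  push_neg at hp1 hm1
  obtain ⟨r, hr, hrp⟩ := hp1
  obtain ⟨s, hs', hsm⟩ := hm1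
  have hr' := (htyp r hr).resolve_right hrp
  have hs'' := (htyp s hs').resolve_left hsm
  have hrne : r ≠ r⁻¹ := fun h => hrp (by
    rw [show q + 1 = (q - 1) + 2 by omega, pow_add, hr', one_mul, pow_two]
    nth_rewrite 1 [h]
    exact inv_mul_cancel₀ (hne0 r hr))
  have hsne : s ≠ s⁻¹ := fun h => hsm (by
    have h2 : s * s = 1 := by nth_rewrite 1 [h]; exact inv_mul_cancel₀ (hne0 s hs')
    calc s ^ (q - 1) = s ^ (q - 1) * (s * s) := by rw [h2, mul_one]
      _ = s ^ (q + 1) := by rw [← pow_two, ← pow_add]; congr 1; omega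
      _ = 1 := hs'')
  have hrs : r ≠ s := fun h => hrp (h ▸ hs'')
  have hrs' : r ≠ s⁻¹ := fun h => hrp (by rw [h, inv_pow, hs'', inv_one])
  have hrs2 : r⁻¹ ≠ s := fun h => hrs' (by rw [← h, inv_inv])
  have hrs3 : r⁻¹ ≠ s⁻¹ := fun h => hrs (inv_injective h)
  obtain ⟨hex, hnd⟩ := h4 {r, r⁻¹, s, s⁻¹} (fun x hx => by
      simp only [Finset.mem_insert, Finset.mem_singleton] at hx
      rcases hx with rfl | rfl | rfl | rfl
      exacts [hr, hSi _ hr, hs', hSi _ hs']) (by simp [hrne, hsne, hrs, hrs', hrs2, hrs3])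
  set N := half q (q ^ 2 - 1)
  have hN : (q + 1) ∣ N ∧ (q - 1) ∣ N := by
    have hfac : q ^ 2 - 1 = (q + 1) * (q - 1) := by rw [← Nat.sq_sub_sq, one_pow]
    rcases half_mul hp f.pos hq with ⟨-, -, hb⟩ | ⟨-, hodd, -, hb⟩
    · rw [show N = (q + 1) * (q - 1) from hb.trans hfac]
      exact ⟨dvd_mul_right _ _, dvd_mul_left _ _⟩
    · obtain ⟨c, hc⟩ := hodd
      have e : N = (c + 1) * (2 * c) := Nat.eq_of_mul_eq_mul_left two_pos
        (hb.trans (by rw [hfac, hc, show 2 * c + 1 - 1 = 2 * c by omega]; ring))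
      rw [hc, show 2 * c + 1 - 1 = 2 * c by omega]
      exact ⟨⟨c, by rw [e]; ring⟩, ⟨c + 1, by rw [e]; ring⟩⟩
  refine ⟨N, Or.inr (Or.inl dvd_rfl), Or.inl ?_⟩
  have := hone N 0 (fun x hx => by
    obtain ⟨⟨a, ha⟩, ⟨b, hb⟩⟩ := hN
    have hx' := hex x hx
    simp only [Finset.mem_insert, Finset.mem_singleton] at hx'
    rcases hx' with rfl | rfl | rfl | rfl
    · rw [hb, pow_mul, hr', one_pow]
    · rw [inv_pow, hb, pow_mul, hr', one_pow, inv_one]
    · rw [ha, pow_mul, hs'', one_pow]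
    · rw [inv_pow, ha, pow_mul, hs'', one_pow, inv_one]) (fun x => by rw [pow_zero]; exact hnd x)
  rwa [pow_zero, mul_one] at this

end Upper

section Lower

variable {F : Type*} [Field F]

theorem pow_pm_of_mk {g : Sp 2 F} {j : ℕ} (h : (QuotientGroup.mk g : Cfsg.PSp 2 F) ^ j = 1) :
    g ^ j = 1 ∨ g ^ j = negOne := by
  rw [← QuotientGroup.mk_pow, QuotientGroup.eq_one_iff, mem_center_iff] at h
  exact h

theorem mem_range_of_dvd [Fintype F] {g : Sp 2 F} {N : ℕ}
    (h : ∀ j, g ^ j = 1 ∨ g ^ j = negOne → N ∣ j) {m : ℕ} (hm : m ∣ N) :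
    m ∈ Set.range (orderOf : Cfsg.PSp 2 F → ℕ) :=
  KS58.exists_orderOf_eq_of_dvd (QuotientGroup.mk g : Cfsg.PSp 2 F)
    (hm.trans (h _ (pow_pm_of_mk (pow_orderOf_eq_one _))))

end Lower

theorem blockSum_pow_pm {F : Type*} [Field F] (x y : Sp 1 F) {j : ℕ}
    (h : SpEl.blockSum (x, y) ^ j = 1 ∨ SpEl.blockSum (x, y) ^ j = (negOne : Sp 2 F)) :
    (x ^ j = 1 ∧ y ^ j = 1) ∨ (x ^ j = negOne ∧ y ^ j = negOne) := by
  rcases h with h | h
  · left
    rw [← map_pow, ← map_one (SpEl.blockSum (a := 1) (b := 1) (F := F))] at h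
    exact ⟨congrArg Prod.fst (SpEl.blockSum_injective h), congrArg Prod.snd (SpEl.blockSum_injective h)⟩
  · right
    rw [← map_pow, show (negOne : Sp 2 F) = SpEl.blockSum ((negOne : Sp 1 F), (negOne : Sp 1 F)) from
      (SpEl.blockSum_negOne (a := 1) (b := 1)).symm] at h
    exact ⟨congrArg Prod.fst (SpEl.blockSum_injective h), congrArg Prod.snd (SpEl.blockSum_injective h)⟩

theorem negOne_pow_two {F : Type*} [Field F] {n : ℕ} : (negOne : Sp n F) ^ 2 = 1 := PrimeGraphPSp.negOne_sq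

theorem wit_cube : Fus2.SpecPSp.wit 1 ^ 3 ≠ 1 ∧ Fus2.SpecPSp.wit 1 ^ 3 ≠ -1 := by decide +kernel

/-- The element orders of `PSp₄(q)`. -/
theorem range_psp4 {F : Type*} [Field F] [Fintype F] (p : ℕ) [Fact p.Prime] [CharP F p] :
    Set.range (orderOf : Cfsg.PSp 2 F → ℕ) = spec4 (Fintype.card F) p := by
  classical
  have hp : p.Prime := Fact.out
  obtain ⟨f, -, hq⟩ := FiniteField.card F p
  set q := Fintype.card F with hqdef
  have hq1 : 1 < q := Fintype.one_lt_card
  have hcases := half_mul hp f.pos hq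
  refine Set.Subset.antisymm ?_ fun m hm => ?_
  · rintro - ⟨x, rfl⟩
    obtain ⟨g, rfl⟩ := QuotientGroup.mk_surjective x
    obtain ⟨N, hN, hpow⟩ := exists_pow_pm p g
    refine mem_spec4_of_dvd hN (orderOf_dvd_of_pow_eq_one ?_)
    rw [← QuotientGroup.mk_pow, QuotientGroup.eq_one_iff, mem_center_iff]
    rcases hpow with h | h
    · left; exact Subtype.ext (by rw [SubmonoidClass.coe_pow]; exact h)
    · right
      refine eq_of_smul_eq fun v => ?_
      rw [negOne_smul]
      show ((g ^ N : Sp 2 F) : Matrix (Fin 2 ⊕ Fin 2) (Fin 2 ⊕ Fin 2) F).mulVec v = -v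
      rw [SubmonoidClass.coe_pow, h, Matrix.neg_mulVec, Matrix.one_mulVec]
  have hplus : ∀ c : ℕ, (c = q + 1 ∨ c = q - 1) → m ∣ p * c → m ∈ Set.range (orderOf : Cfsg.PSp 2 F → ℕ) := by
    intro c hc hm
    obtain ⟨x, hx⟩ := PrimeGraphPSp.exists_char_order (F := F) (b := 1) le_rfl p
    obtain ⟨y, hy⟩ := PrimeGraphPSp.exists_sp_order (F := F) (a := 1) (d := c) le_rfl (by
      rcases hc with rfl | rfl <;> simp [hqdef])
    refine mem_range_of_dvd (g := SpEl.blockSum (x, y)) (fun j hj => ?_) hm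
    have hcop : Nat.Coprime p c := by
      rw [hp.coprime_iff_not_dvd]
      intro hd
      have hpq : p ∣ q := hq ▸ dvd_pow_self p f.pos.ne'
      rcases hc with rfl | rfl
      · exact hp.not_dvd_one ((Nat.dvd_add_iff_right hpq).2 hd)
      · have h1 := Nat.dvd_sub hpq hd
        rw [show q - (q - 1) = 1 by omega] at h1
        exact hp.not_dvd_one h1
    rcases blockSum_pow_pm x y hj with ⟨h1, h2⟩ | ⟨h1, h2⟩
    · exact hcop.mul_dvd_of_dvd_of_dvd (hx ▸ orderOf_dvd_of_pow_eq_one h1) (hy ▸ orderOf_dvd_of_pow_eq_one h2)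
    · by_cases h2F : (2 : F) = 0
      · rw [PrimeGraphPSp.negOne_eq_one h2F] at h1 h2
        exact hcop.mul_dvd_of_dvd_of_dvd (hx ▸ orderOf_dvd_of_pow_eq_one h1) (hy ▸ orderOf_dvd_of_pow_eq_one h2)
      · -- a power of an element of odd order is not `-1`
        exfalso
        have hpodd : Odd p := hp.eq_two_or_odd'.resolve_left fun h => h2F (by
          subst h; exact CharP.cast_eq_zero F 2)
        have hneg : (negOne : Sp 1 F) = 1 := by
          have h3 : (negOne : Sp 1 F) ^ p = 1 := by rw [← h1, ← pow_mul, mul_comm, pow_mul, ← hx, pow_orderOf_eq_one, one_pow]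
          obtain ⟨k, hk⟩ := hpodd
          rwa [hk, pow_succ, pow_mul, negOne_pow_two, one_pow, one_mul] at h3
        have h4 := congrArg (fun g : Sp 1 F => (g • (Pi.single (Sum.inl 0) 1 : Vec 1 F)) (Sum.inl 0)) hneg
        simp [negOne_smul] at h4
        exact h2F (by linear_combination -h4)
  rcases hm with hm | hm | hm | hm | ⟨hp3, hm⟩
  · obtain ⟨g, hg⟩ := PrimeGraphPSp.exists_sp_order (F := F) (a := 2) (d := q ^ 2 + 1) (by norm_num) (Or.inr dvd_rfl)
    refine mem_range_of_dvd (g := g) (fun j hj => ?_) hm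
    have h2 : g ^ (2 * j) = 1 := by
      rcases hj with h | h <;> rw [mul_comm, pow_mul, h]
      · exact one_pow 2
      · exact negOne_pow_two
    have hdvd := orderOf_dvd_of_pow_eq_one h2
    rw [hg] at hdvd
    rcases hcases with ⟨h, ha, -⟩ | ⟨-, -, ha, -⟩
    · rw [ha]
      refine Nat.Coprime.dvd_of_dvd_mul_left ?_ hdvd
      rw [Nat.coprime_two_right, Nat.odd_add_one, Nat.not_odd_iff_even, hq, h]
      exact (Nat.even_pow' two_ne_zero).2 ((Nat.even_pow' f.pos.ne').2 even_two)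
    · rw [← ha] at hdvd
      exact Nat.dvd_of_mul_dvd_mul_left two_pos hdvd
  · obtain ⟨x, hx⟩ := PrimeGraphPSp.exists_sp_order (F := F) (a := 1) (d := q - 1) le_rfl (Or.inl (by simp [hqdef]))
    obtain ⟨y, hy⟩ := PrimeGraphPSp.exists_sp_order (F := F) (a := 1) (d := q + 1) le_rfl (Or.inr (by simp [hqdef]))
    refine mem_range_of_dvd (g := SpEl.blockSum (x, y)) (fun j hj => ?_) hm
    have hfac : q ^ 2 - 1 = (q + 1) * (q - 1) := by rw [← Nat.sq_sub_sq, one_pow]
    rcases hcases with ⟨h, -, hb⟩ | ⟨-, hodd, -, hb⟩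
    · have h2F : (2 : F) = 0 := by subst h; exact CharP.cast_eq_zero F 2
      rw [hb, hfac]
      have hjj : x ^ j = 1 ∧ y ^ j = 1 := by
        rcases blockSum_pow_pm x y hj with h' | h'
        · exact h'
        · rwa [PrimeGraphPSp.negOne_eq_one h2F] at h'
      refine Nat.Coprime.mul_dvd_of_dvd_of_dvd ?_ (hy ▸ orderOf_dvd_of_pow_eq_one hjj.2)
        (hx ▸ orderOf_dvd_of_pow_eq_one hjj.1)
      rw [Nat.coprime_comm, ← Nat.coprime_sub_self_right (show q - 1 ≤ q + 1 by omega),
        show q + 1 - (q - 1) = 2 by omega, Nat.coprime_two_right]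
      exact Nat.Even.sub_odd hq1.le (by rw [hq, h]; exact (Nat.even_pow' f.pos.ne').2 even_two) odd_one
    · obtain ⟨c, hc⟩ := hodd
      have e : half q (q ^ 2 - 1) = (c + 1) * (2 * c) := Nat.eq_of_mul_eq_mul_left two_pos
        (hb.trans (by rw [hfac, hc, show 2 * c + 1 - 1 = 2 * c by omega]; ring))
      rw [hc, show 2 * c + 1 - 1 = 2 * c by omega] at hx
      rw [hc, show 2 * c + 1 + 1 = 2 * (c + 1) by ring] at hy
      rw [e]
      have hcc : Nat.Coprime (c + 1) c := Nat.coprime_self_add_left.2 (Nat.coprime_one_left c) |>.symm |>.symm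
      -- `j` is a multiple of both torus orders
      obtain ⟨hd1, hd2⟩ : 2 * c ∣ j ∧ 2 * (c + 1) ∣ j := by
        rcases blockSum_pow_pm x y hj with ⟨h1, h2⟩ | ⟨h1, h2⟩
        · exact ⟨hx ▸ orderOf_dvd_of_pow_eq_one h1, hy ▸ orderOf_dvd_of_pow_eq_one h2⟩
        · by_cases hne : (negOne : Sp 1 F) = 1
          · rw [hne] at h1 h2
            exact ⟨hx ▸ orderOf_dvd_of_pow_eq_one h1, hy ▸ orderOf_dvd_of_pow_eq_one h2⟩
          exfalso
          have key : ∀ (z : Sp 1 F) (a : ℕ), orderOf z = 2 * a → z ^ j = negOne → ∃ b, j = a * b ∧ Odd b := by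
            intro z a hz hzj
            have h2j : 2 * a ∣ 2 * j := hz ▸ orderOf_dvd_of_pow_eq_one
              (by rw [mul_comm, pow_mul, hzj, negOne_pow_two])
            obtain ⟨b, hb⟩ := Nat.dvd_of_mul_dvd_mul_left two_pos h2j
            refine ⟨b, hb, Nat.not_even_iff_odd.1 ?_⟩
            rintro ⟨b', hb'⟩
            refine hne ?_
            rw [← hzj, hb, hb', ← two_mul, ← mul_assoc, mul_comm a 2, ← hz, pow_mul, pow_orderOf_eq_one, one_pow]
          obtain ⟨b1, e1, o1⟩ := key x c hx h1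
          obtain ⟨b2, e2, o2⟩ := key y (c + 1) hy h2
          rcases Nat.even_or_odd c with hc2 | hc2
          · have : Odd j := e2 ▸ (hc2.add_one.mul o2)
            exact Nat.not_even_iff_odd.2 this (e1 ▸ hc2.mul_right b1)
          · have : Odd j := e1 ▸ hc2.mul o1
            exact Nat.not_even_iff_odd.2 this (e2 ▸ hc2.add_one.mul_right b2)
      obtain ⟨d, hd⟩ := hd1
      have h3 : c + 1 ∣ c * d := by
        have : 2 * (c + 1) ∣ 2 * (c * d) := by rw [← mul_assoc]; exact hd ▸ hd2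
        exact Nat.dvd_of_mul_dvd_mul_left two_pos this
      rw [hd, mul_comm (c + 1)]
      exact mul_dvd_mul_left _ (hcc.dvd_of_dvd_mul_left h3)
  · exact hplus _ (Or.inl rfl) hm
  · exact hplus _ (Or.inr rfl) hm
  · -- regular unipotent elements in small characteristic
    obtain ⟨g, hg, hg'⟩ : ∃ g : Sp 2 F, g ^ p ^ 2 = 1 ∧ g ^ p ≠ 1 ∧ g ^ p ≠ negOne := by
      by_cases h2 : p = 2
      · subst h2
        have h2F : (2 : F) = 0 := CharP.cast_eq_zero F 2
        let w : Matrix (Fin 2 ⊕ Fin 2) (Fin 2 ⊕ Fin 2) F :=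
          Matrix.fromBlocks !![0, 1; 1, 0] !![0, 1; 0, 0] 0 !![0, 1; 1, 0]
        have hw : w ∈ Matrix.symplecticGroup (Fin 2) F := by
          rw [SymplecticGroup.mem_iff]
          ext i j
          rcases i with i | i <;> rcases j with j | j <;> fin_cases i <;> fin_cases j <;>
            simp [w, Matrix.J, Matrix.mul_apply, Matrix.fromBlocks_apply₁₁] <;> linear_combination h2F
        have hw4 : w ^ 4 = 1 := by
          ext i j
          rcases i with i | i <;> rcases j with j | j <;> fin_cases i <;> fin_cases j <;>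
            simp [w, pow_succ, Matrix.mul_apply] <;> linear_combination h2F
        have hw2 : w ^ 2 ≠ 1 := fun h => by
          have := congrFun (congrFun h (Sum.inl 0)) (Sum.inr 0)
          simp [w, pow_succ, Matrix.mul_apply] at this
        refine ⟨⟨w, hw⟩, Subtype.ext (by rw [SubmonoidClass.coe_pow]; exact hw4), ?_, ?_⟩
        · exact fun h => hw2 ((SubmonoidClass.coe_pow _ _).symm.trans (congrArg Subtype.val h))
        · rw [PrimeGraphPSp.negOne_eq_one h2F]
          exact fun h => hw2 ((SubmonoidClass.coe_pow _ _).symm.trans (congrArg Subtype.val h))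
      · have h3 : p = 3 := by have := hp.two_le; omega
        subst h3
        let ι := ZMod.castHom (dvd_refl 3) F
        haveI : Fact (Nat.Prime 3) := ⟨hp⟩
        let w := ι.mapMatrix (Fus2.SpecPSp.wit 1)
        have hJ : ι.mapMatrix (Matrix.J (Fin 2) (ZMod 3)) = Matrix.J (Fin 2) F := by
          ext r s
          rcases r with r | r <;> rcases s with s | s <;> simp [Matrix.J, Matrix.one_apply, apply_ite ι]
        have hw : w ∈ Matrix.symplecticGroup (Fin 2) F := SymplecticGroup.mem_iff.mpr (by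
          simp only [w]
          rw [← hJ, RingHom.mapMatrix_apply, RingHom.mapMatrix_apply, ← Matrix.transpose_map, ← Matrix.map_mul,
            ← Matrix.map_mul, Fus2.SpecPSp.wit_mem])
        have hinj : Function.Injective (ι.mapMatrix (m := Fin 2 ⊕ Fin 2)) := fun A B h =>
          Matrix.ext fun r s => ι.injective (congrFun (congrFun h r) s)
        have h9 : Fus2.SpecPSp.wit 1 ^ 9 = 1 := Fus2.SpecPSp.wit_pow 1
        have hne := wit_cube
        refine ⟨⟨w, hw⟩, Subtype.ext ?_, ?_, ?_⟩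
        · rw [SubmonoidClass.coe_pow]
          show ι.mapMatrix (Fus2.SpecPSp.wit 1) ^ 9 = 1
          rw [← map_pow, h9, map_one]
        · intro h
          refine hne.1 (hinj ?_)
          rw [map_pow, map_one]
          exact (SubmonoidClass.coe_pow _ _).symm.trans (congrArg Subtype.val h)
        · intro h
          refine hne.2 (hinj ?_)
          rw [map_pow, map_neg, map_one]
          refine Matrix.ext_of_mulVec_single fun i => ?_
          rw [Matrix.neg_mulVec, Matrix.one_mulVec]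
          have h' := congrArg (fun g : Sp 2 F => g • (Pi.single i 1 : Vec 2 F)) h
          simp only [negOne_smul] at h'
          exact h'
    refine mem_range_of_dvd (g := g) (fun j hj => ?_) hm
    have h1 : g ^ (2 * j) = 1 := by
      rcases hj with h | h <;> rw [mul_comm, pow_mul, h]
      · exact one_pow 2
      · exact negOne_pow_two
    have hord : orderOf g = p ^ 2 := orderOf_eq_prime_pow (by rw [pow_one]; exact hg'.1) hg
    rcases eq_or_ne p 2 with h | h
    · subst h
      rcases hj with h | h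
      · exact hord ▸ orderOf_dvd_of_pow_eq_one h
      · rw [PrimeGraphPSp.negOne_eq_one (CharP.cast_eq_zero F 2 : ((2 : ℕ) : F) = 0)] at h
        exact hord ▸ orderOf_dvd_of_pow_eq_one h
    · refine Nat.Coprime.dvd_of_dvd_mul_left ?_ (hord ▸ orderOf_dvd_of_pow_eq_one h1)
      exact Nat.Coprime.pow_left 2 ((Nat.coprime_primes hp Nat.prime_two).2 h)

end Cfsg.Agent.Spec4
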