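import Cfsg.Agent.S3590
import Cfsg.Agent.Spec4.Target

/-!
Semidirect products of many copies of a module by a matrix group (helper52).
-/

set_option autoImplicit false

namespace Cfsg.Agent.Spec4

open Matrix

theorem geom_zero {R : Type*} [Ring R] {g : R} {N : ℕ} (hg : g ^ N = 1) (h : IsUnit (g - 1)) :
    ∑ i ∈ Finset.range N, g ^ i = 0 := by
  refine (h.mul_right_eq_zero).1 ?_
  rw [mul_geom_sum, hg, sub_self]

section Fam

variable {ι E : Type} [Field E] [Fintype E] [Fintype ι] [DecidableEq ι]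

/-- The general comparison: the upper and the lower conditions give a family of groups with element orders `T`. -/
theorem exists_family (p : ℕ) [Fact p.Prime] [CharP E p] [Nonempty ι] (X : Subgroup (GL ι E)) (T : Set ℕ)
    (hT : ∀ {m n : ℕ}, n ∈ T → m ∣ n → m ∈ T)
    (hup : ∀ g ∈ X, ∃ N, g ^ N = 1 ∧ ((N ∈ T ∧ ∑ i ∈ Finset.range N, (g : Matrix ι ι E) ^ i = 0) ∨ p * N ∈ T))
    (hlow : ∀ m ∈ T, (∃ g ∈ X, m ∣ orderOf g) ∨ ∃ g ∈ X, ∃ v : ι → E,
      (∑ i ∈ Finset.range (orderOf g), (g : Matrix ι ι E) ^ i) *ᵥ v ≠ 0 ∧ m ∣ p * orderOf g) (M : ℕ) :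
    ∃ (H : Type) (_ : Group H) (_ : Fintype H), M < Fintype.card H ∧ Set.range (orderOf : H → ℕ) = T := by
  classical
  let φ : ↥X →* MulAut (Multiplicative (Fin (M + 1) → ι → E)) := (S3590.matAct (M + 1)).comp X.subtype
  let H := Multiplicative (Fin (M + 1) → ι → E) ⋊[φ] ↥X
  have hfin : Finite H := Finite.of_equiv _ SemidirectProduct.equivProd.symm
  refine ⟨H, inferInstance, Fintype.ofFinite H, ?_, Set.ext fun m => ⟨?_, fun hm => ?_⟩⟩
  · rw [← @Nat.card_eq_fintype_card H (Fintype.ofFinite H), SemidirectProduct.card,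
      Nat.card_congr Multiplicative.toAdd]
    refine lt_of_lt_of_le ?_ (Nat.le_mul_of_pos_right _ Nat.card_pos)
    rw [Nat.card_fun, Nat.card_fun, ← pow_mul, Nat.card_eq_fintype_card (α := E), Nat.card_fin]
    calc M < 2 ^ M := Nat.lt_two_pow_self
      _ ≤ Fintype.card E ^ M := Nat.pow_le_pow_left Fintype.one_lt_card _
      _ ≤ _ := Nat.pow_le_pow_right Fintype.card_pos
        ((Nat.le_succ M).trans (Nat.le_mul_of_pos_left _ (Nat.card_pos (α := ι))))
  all_goals
    have hS : ∀ (a : Multiplicative (Fin (M + 1) → ι → E)) (x : ↥X) (n : ℕ) (i : Fin (M + 1)),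
        Multiplicative.toAdd (∏ j ∈ Finset.range n, φ (x ^ j) a) i =
          (∑ j ∈ Finset.range n, ((x : GL ι E) : Matrix ι ι E) ^ j) *ᵥ Multiplicative.toAdd a i := by
      intro a x n i
      rw [toAdd_prod, Finset.sum_apply, Matrix.sum_mulVec]
      refine Finset.sum_congr rfl fun j _ => ?_
      rw [← Units.val_pow_eq_pow_val, ← SubmonoidClass.coe_pow]
      rfl
    have hexp : ∀ b : Multiplicative (Fin (M + 1) → ι → E), b ^ p = 1 := fun b => by
      refine Multiplicative.toAdd.injective (funext fun i => funext fun j => ?_)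
      rw [toAdd_pow, toAdd_one, Pi.smul_apply, Pi.smul_apply, nsmul_eq_mul, CharP.cast_eq_zero, zero_mul]
      rfl
    have hpow : ∀ (a : Multiplicative (Fin (M + 1) → ι → E)) (x : ↥X) (n : ℕ), x ^ n = 1 →
        (⟨a, x⟩ : H) ^ n = SemidirectProduct.inl (∏ j ∈ Finset.range n, φ (x ^ j) a) := fun a x n hn => by
      rw [S3590.semi_pow, hn]
      rfl
  · rintro ⟨⟨a, x⟩, rfl⟩
    obtain ⟨N, hN, hcase⟩ := hup x.1 x.2
    have hxN : x ^ N = 1 := Subtype.ext (by rw [SubmonoidClass.coe_pow]; exact hN)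
    rcases hcase with ⟨hNT, h0⟩ | hpN
    · refine hT hNT (orderOf_dvd_of_pow_eq_one ?_)
      rw [hpow a x N hxN, ← map_one SemidirectProduct.inl]
      refine congrArg _ (Multiplicative.toAdd.injective (funext fun i => ?_))
      rw [hS, h0, Matrix.zero_mulVec]
      rfl
    · refine hT hpN (orderOf_dvd_of_pow_eq_one ?_)
      rw [mul_comm, pow_mul, hpow a x N hxN, ← map_pow, hexp, map_one]
  · rcases hlow m hm with ⟨g, hg, hdvd⟩ | ⟨g, hg, v, hv, hdvd⟩
    · refine KS58.exists_orderOf_eq_of_dvd (SemidirectProduct.inr (⟨g, hg⟩ : ↥X) : H) ?_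
      rw [orderOf_injective _ SemidirectProduct.inr_injective, Subgroup.orderOf_mk]
      exact hdvd
    · let a : Multiplicative (Fin (M + 1) → ι → E) := Multiplicative.ofAdd fun _ => v
      let h : H := ⟨a, ⟨g, hg⟩⟩
      refine KS58.exists_orderOf_eq_of_dvd h (hdvd.trans ?_)
      have h1 : orderOf g ∣ orderOf h := by
        have := orderOf_map_dvd SemidirectProduct.rightHom h
        rwa [show SemidirectProduct.rightHom h = (⟨g, hg⟩ : ↥X) from rfl, Subgroup.orderOf_mk] at this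
      have hxn : (⟨g, hg⟩ : ↥X) ^ orderOf g = 1 := Subtype.ext (by
        rw [SubmonoidClass.coe_pow]; exact pow_orderOf_eq_one g)
      have hne : h ^ orderOf g ≠ 1 := by
        intro h2
        rw [hpow a _ _ hxn, ← map_one SemidirectProduct.inl] at h2
        refine hv ?_
        have h3 := congrFun (congrArg Multiplicative.toAdd (SemidirectProduct.inl_injective h2)) 0
        rw [hS] at h3
        exact h3
      obtain ⟨c, hc⟩ := h1
      have h2 : orderOf h ∣ orderOf g * p := orderOf_dvd_of_pow_eq_one (by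
        rw [pow_mul, hpow a _ _ hxn, ← map_pow, hexp, map_one])
      rw [hc] at h2
      rcases (Nat.dvd_prime Fact.out).1 (Nat.dvd_of_mul_dvd_mul_left (orderOf_pos g) h2) with rfl | rfl
      · exact absurd ((congrArg (h ^ ·) (hc.trans (mul_one _))).symm.trans (pow_orderOf_eq_one h)) hne
      · rw [hc, mul_comm]

theorem norm_of_fixed (p : ℕ) [Fact p.Prime] [CharP E p] {g : GL ι E} {v : ι → E} (hv : v ≠ 0)
    (hfix : (g : Matrix ι ι E) *ᵥ v = v) (hp : ¬ p ∣ orderOf g) :
    (∑ i ∈ Finset.range (orderOf g), (g : Matrix ι ι E) ^ i) *ᵥ v ≠ 0 := by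
  have hpw : ∀ i : ℕ, ((g : Matrix ι ι E) ^ i) *ᵥ v = v := fun i => by
    induction i with
    | zero => rw [pow_zero, Matrix.one_mulVec]
    | succ i ih => rw [pow_succ, ← Matrix.mulVec_mulVec, hfix, ih]
  rw [Matrix.sum_mulVec, Finset.sum_congr rfl fun i _ => hpw i, Finset.sum_const, Finset.card_range,
    ← Nat.cast_smul_eq_nsmul E]
  exact smul_ne_zero (fun h => hp ((CharP.cast_eq_zero_iff E p _).1 h)) hv

end Fam

end Cfsg.Agent.Spec4
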