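import Cfsg.Agent.Spec4.Models

/-!
`Ω₄⁻(q)` extended by the interchange of the tensor factors (helper52).
-/

set_option autoImplicit false

namespace Cfsg.Agent.Spec4

open Matrix
open scoped Kronecker

theorem sum_range_two_mul {R : Type*} [Semiring R] (g : R) (n : ℕ) :
    ∑ i ∈ Finset.range (2 * n), g ^ i = (1 + g) * ∑ j ∈ Finset.range n, (g * g) ^ j := by
  induction n with
  | zero => simp
  | succ n ih =>
    rw [show 2 * (n + 1) = 2 * n + 1 + 1 by ring, Finset.sum_range_succ, Finset.sum_range_succ, ih,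
      Finset.sum_range_succ _ n, mul_add, add_assoc]
    congr 1
    rw [← pow_two, ← pow_mul, add_mul, one_mul, ← pow_succ']

section Data

variable {E : Type} [Field E] [Fintype E] (p : ℕ) [hp : Fact p.Prime] [CharP E p]

theorem tens2_nil (f : ℕ) (N : Matrix (Fin 2) (Fin 2) E) (hN : N * N = 0) :
    (tens2 p E f (1 + N) - 1) ^ 3 = 0 := by
  set N' := (iterateFrobenius E p f).mapMatrix N with hN'
  have hN2 : N' * N' = 0 := by rw [hN', ← map_mul, hN, map_zero]
  have hfr : (iterateFrobenius E p f).mapMatrix (1 + N) = 1 + N' := by rw [map_add, map_one]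
  have e : tens2 p E f (1 + N) = (1 + N) ⊗ₖ (1 + N') := by rw [← hfr]; rfl
  set X : Matrix (Fin 2 × Fin 2) (Fin 2 × Fin 2) E := N ⊗ₖ (1 : Matrix (Fin 2) (Fin 2) E) with hX
  set Y : Matrix (Fin 2 × Fin 2) (Fin 2 × Fin 2) E := (1 : Matrix (Fin 2) (Fin 2) E) ⊗ₖ N' with hY
  have hX2 : X * X = 0 := by rw [hX, ← Matrix.mul_kronecker_mul, hN, Matrix.zero_kronecker]
  have hY2 : Y * Y = 0 := by rw [hY, ← Matrix.mul_kronecker_mul, hN2, Matrix.kronecker_zero]
  have hcomm : Y * X = X * Y := by
    rw [hX, hY, ← Matrix.mul_kronecker_mul, ← Matrix.mul_kronecker_mul]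
    simp
  have e2 : tens2 p E f (1 + N) - 1 = X + Y + X * Y := by
    rw [e, hX, hY, ← Matrix.mul_kronecker_mul, mul_one, one_mul, Matrix.add_kronecker, Matrix.kronecker_add,
      Matrix.kronecker_add, Matrix.one_kronecker_one]
    abel
  rw [e2, pow_succ, pow_two]
  have hXa : ∀ Z, X * (X * Z) = 0 := fun Z => by rw [← mul_assoc, hX2, zero_mul]
  have hYa : ∀ Z, Y * (Y * Z) = 0 := fun Z => by rw [← mul_assoc, hY2, zero_mul]
  have hca : ∀ Z, Y * (X * Z) = X * (Y * Z) := fun Z => by rw [← mul_assoc, hcomm, mul_assoc]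
  simp only [add_mul, mul_add, mul_assoc, hX2, hY2, hcomm, hXa, hYa, hca, mul_zero, zero_mul, add_zero]

theorem tens2_neg (f : ℕ) : tens2 p E f (-1) = 1 := by
  show (-1 : Matrix (Fin 2) (Fin 2) E) ⊗ₖ (iterateFrobenius E p f).mapMatrix (-1) = 1
  rw [map_neg, map_one]
  ext i j
  simp [Matrix.one_apply, Prod.ext_iff]
  split_ifs <;> simp_all

/-- The data of `V ⊗ V^(q)`. -/
noncomputable def data2 {f : ℕ} : RepData p (p ^ f) (tens2 p E f) :=
  haveI : CharP (AlgebraicClosure E) p := charP_of_injective_algebraMap (algebraMap E _).injective p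
  { τK := tens2 p (AlgebraicClosure E) f
    hmap := fun A => tens2_map p E _ f A
    val := fun l i => ![l, l⁻¹] i.1 * ![l, l⁻¹] i.2 ^ p ^ f
    hdiag := fun l => tens2_diag p (AlgebraicClosure E) f _
    hneg := tens2_neg p f
    fixed := fun l hl _ i hi => by
      obtain ⟨a, b⟩ := i
      fin_cases a <;> fin_cases b <;>
        simp only [Fin.zero_eta, Fin.mk_one, Matrix.cons_val_zero, Matrix.cons_val_one, Matrix.cons_val_fin_one,
          inv_pow] at hi
      · right; rw [mul_pow, eq_inv_of_mul_eq_one_right hi, mul_inv]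
      · left
        have : l = l ^ p ^ f := (mul_inv_eq_one₀ (pow_ne_zero _ hl)).1 hi
        rw [mul_pow, ← this]
      · left
        have : l = l ^ p ^ f := (inv_mul_eq_one₀ hl).1 hi
        rw [mul_pow, ← this]
      · right
        have h' : l * l ^ p ^ f = 1 := by
          rw [← mul_inv] at hi
          exact inv_eq_one.1 hi
        rw [mul_pow, eq_inv_of_mul_eq_one_right h', mul_inv]
    faithful := fun l hl h => by
      have h1 := h (0, 0)
      have h2 := h (0, 1)
      simp only [Matrix.cons_val_zero, Matrix.cons_val_one, Matrix.cons_val_fin_one, inv_pow] at h1 h2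
      have h3 : l = l ^ p ^ f := (mul_inv_eq_one₀ (pow_ne_zero _ hl)).1 h2
      rwa [← h3] at h1
    nil := fun _ N hN => tens2_nil p f N hN }

end Data

section Swap

variable {E : Type} [Field E]

/-- The interchange of the tensor factors. -/
def swapM : Matrix (Fin 2 × Fin 2) (Fin 2 × Fin 2) E := Equiv.Perm.permMatrix E (Equiv.prodComm (Fin 2) (Fin 2))

theorem swapM_apply (i j : Fin 2 × Fin 2) : (swapM : Matrix _ _ E) i j = if i.swap = j then 1 else 0 := by
  simp [swapM, Equiv.Perm.permMatrix, PEquiv.toMatrix_apply, eq_comm]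

theorem swapM_sq : (swapM : Matrix (Fin 2 × Fin 2) _ E) * swapM = 1 := by
  ext ⟨a, b⟩ ⟨c, d⟩
  rw [Matrix.mul_apply, Finset.sum_eq_single (b, a)]
  · simp [swapM_apply, Matrix.one_apply, Prod.ext_iff, and_comm]
  · intro x _ hx
    rw [swapM_apply, if_neg (fun h => hx (by rw [← h]; rfl)), zero_mul]
  · simp

/-- The interchange as a unit. -/
def swapU : GL (Fin 2 × Fin 2) E := ⟨swapM, swapM, swapM_sq, swapM_sq⟩

theorem swap_mulVec (i : Fin 2 × Fin 2) :
    (swapM : Matrix (Fin 2 × Fin 2) _ E) *ᵥ Pi.single i 1 = Pi.single i.swap 1 := by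
  funext j
  rw [Matrix.mulVec_single_one, Matrix.col_apply, swapM_apply, Pi.single_apply]
  obtain ⟨a, b⟩ := j
  obtain ⟨c, d⟩ := i
  simp [Prod.ext_iff, and_comm]

variable (p : ℕ) [hp : Fact p.Prime] [CharP E p] (f : ℕ)

theorem tens2_mulVec (A : Matrix (Fin 2) (Fin 2) E) (i : Fin 2 × Fin 2) :
    tens2 p E f A *ᵥ Pi.single i 1 = fun j => A j.1 i.1 * A j.2 i.2 ^ p ^ f := by
  funext j
  rw [Matrix.mulVec_single_one, Matrix.col_apply, tens2_apply]

variable [Fintype E] (hE : Fintype.card E = (p ^ f) ^ 2)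
include hE

theorem frob_frob (x : E) : (x ^ p ^ f) ^ p ^ f = x := by
  rw [← pow_mul, ← pow_two, ← hE, FiniteField.pow_card]

theorem swap_mul_tens2 (A : Matrix (Fin 2) (Fin 2) E) :
    swapM * tens2 p E f A = tens2 p E f (frob p E f A) * swapM := by
  ext ⟨a, b⟩ ⟨c, d⟩
  rw [Matrix.mul_apply, Matrix.mul_apply, Finset.sum_eq_single (b, a), Finset.sum_eq_single (d, c)]
  · rw [tens2_apply, tens2_apply, frob_apply, frob_apply, frob_frob p f hE, swapM_apply, swapM_apply]
    simp [mul_comm]
  · intro x _ hx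
    rw [swapM_apply, if_neg, mul_zero]
    exact fun h => hx (by rw [← Prod.swap_swap x, h, Prod.swap_prod_mk])
  · simp
  · intro x _ hx
    rw [swapM_apply, if_neg (fun h => hx (by rw [← h]; rfl)), zero_mul]
  · simp

/-- The extended group. -/
def extGroup : Subgroup (GL (Fin 2 × Fin 2) E) where
  carrier := {g | (∃ A, g = repGL (tens2 p E f) A) ∨ ∃ A, g = repGL (tens2 p E f) A * swapU}
  one_mem' := Or.inl ⟨1, (map_one _).symm⟩
  mul_mem' := by
    have hsw : ∀ A, swapU * repGL (tens2 p E f) A =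
        repGL (tens2 p E f) (Matrix.SpecialLinearGroup.map (iterateFrobenius E p f) A) * swapU := fun A =>
      Units.ext (swap_mul_tens2 p f hE A)
    have hsq : (swapU : GL (Fin 2 × Fin 2) E) * swapU = 1 := Units.ext swapM_sq
    rintro g g' (⟨A, rfl⟩ | ⟨A, rfl⟩) (⟨B, rfl⟩ | ⟨B, rfl⟩)
    · exact Or.inl ⟨A * B, (map_mul _ _ _).symm⟩
    · exact Or.inr ⟨A * B, by rw [map_mul, mul_assoc]⟩
    · exact Or.inr ⟨A * _, by rw [mul_assoc, hsw, ← mul_assoc, ← map_mul]⟩
    · refine Or.inl ⟨A * Matrix.SpecialLinearGroup.map (iterateFrobenius E p f) B, ?_⟩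
      rw [mul_assoc, ← mul_assoc swapU, hsw, mul_assoc (repGL _ _) swapU, hsq, mul_one, ← map_mul]
  inv_mem' := by
    have hsw : ∀ A, swapU * repGL (tens2 p E f) A =
        repGL (tens2 p E f) (Matrix.SpecialLinearGroup.map (iterateFrobenius E p f) A) * swapU := fun A =>
      Units.ext (swap_mul_tens2 p f hE A)
    have hsq : (swapU : GL (Fin 2 × Fin 2) E)⁻¹ = swapU := inv_eq_of_mul_eq_one_right (Units.ext swapM_sq)
    rintro g (⟨A, rfl⟩ | ⟨A, rfl⟩)
    · exact Or.inl ⟨A⁻¹, (map_inv _ _).symm⟩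
    · exact Or.inr ⟨_, by rw [_root_.mul_inv_rev, hsq, ← map_inv, hsw]⟩

theorem outer_sq (A : Matrix.SpecialLinearGroup (Fin 2) E) :
    (repGL (tens2 p E f) A * swapU) ^ 2 =
      repGL (tens2 p E f) (A * Matrix.SpecialLinearGroup.map (iterateFrobenius E p f) A) := by
  refine Units.ext ?_
  rw [pow_two, map_mul, Units.val_mul, Units.val_mul, Units.val_mul, mul_assoc, ← mul_assoc (swapU : GL _ E).val]
  show _ * (swapM * tens2 p E f (A : Matrix (Fin 2) (Fin 2) E) * swapM) = _
  rw [swap_mul_tens2 p f hE, mul_assoc, swapM_sq, mul_one]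
  rfl

/-- The outer elements stay within the list. -/
theorem outer_upper (h5 : 5 ≤ p) (hf : 0 < f) (A : Matrix.SpecialLinearGroup (Fin 2) E) :
    ∃ N, (repGL (tens2 p E f) A * swapU) ^ N = 1 ∧
      ((N ∈ spec4 (p ^ f) p ∧ ∑ i ∈ Finset.range N,
        (repGL (tens2 p E f) A * swapU).val ^ i = 0) ∨
        p * N ∈ spec4 (p ^ f) p) := by
  classical
  set g := repGL (tens2 p E f) A * swapU with hg
  set q := p ^ f with hq
  have hpodd : Odd p := hp.out.eq_two_or_odd'.resolve_left (by omega)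
  obtain ⟨c, hc⟩ : Odd q := hpodd.pow
  set C := A * Matrix.SpecialLinearGroup.map (iterateFrobenius E p f) A with hC
  set B : Matrix (Fin 2) (Fin 2) E := (C : Matrix (Fin 2) (Fin 2) E) with hB
  have htrfix : B.trace ^ q = B.trace := by
    have hB' : B = (A : Matrix (Fin 2) (Fin 2) E) * frob p E f (A : Matrix (Fin 2) (Fin 2) E) := rfl
    rw [hB', Matrix.trace_fin_two, Matrix.mul_apply, Matrix.mul_apply, Fin.sum_univ_two, Fin.sum_univ_two]
    simp only [frob_apply, hq, add_pow_char_pow, mul_pow, frob_frob p f hE]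
    ring
  have hone : ∀ N, (B ^ N = 1 ∨ B ^ N = -1) → g ^ (2 * N) = 1 := fun N h => by
    rw [pow_mul, hg, outer_sq p f hE]
    refine Units.ext ?_
    rw [Units.val_pow_eq_pow_val, repGL_val, ← map_pow, Units.val_one]
    exact tau_eq_one (data2 p) h
  haveI : CharP (AlgebraicClosure E) p := charP_of_injective_algebraMap (algebraMap E _).injective p
  obtain ⟨l, hl0, htr, hcase⟩ := sl2_cases (B.map (algebraMap E (AlgebraicClosure E))) (by
    rw [← RingHom.mapMatrix_apply, ← RingHom.map_det, C.det_coe, map_one])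
  have hlq : l ^ q = l ∨ l ^ q = l⁻¹ := by
    have htr' : l + l⁻¹ = algebraMap E _ B.trace := by
      rw [htr, Matrix.trace_fin_two, Matrix.trace_fin_two, map_add]; rfl
    have h2 : l ^ q + (l ^ q)⁻¹ = l + l⁻¹ := by
      rw [← inv_pow, hq, ← add_pow_char_pow, htr', ← map_pow, ← hq, htrfix]
    have h0 : l ^ q ≠ 0 := pow_ne_zero _ hl0
    have h3 : (l ^ q - l) * (l ^ q * l - 1) = 0 := by
      field_simp at h2
      linear_combination h2
    rcases mul_eq_zero.1 h3 with h4 | h4
    · exact Or.inl (sub_eq_zero.1 h4)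
    · exact Or.inr (eq_inv_of_mul_eq_one_left (sub_eq_zero.1 h4))
  rcases hcase with ⟨-, P, hP⟩ | ⟨hll, hnil⟩
  · rcases hlq with h | h
    · refine ⟨2 * c, hone c (pow_pm_of_diag hl0 hP ?_), Or.inr ?_⟩
      · refine mul_right_cancel₀ hl0 ?_
        rw [one_mul, ← pow_add, ← two_mul, ← pow_succ, ← hc, h]
      · exact Or.inr (Or.inr (Or.inr (Or.inl (by rw [show q - 1 = 2 * c by omega]))))
    · refine ⟨2 * (c + 1), hone (c + 1) (pow_pm_of_diag hl0 hP ?_), Or.inr ?_⟩
      · rw [← pow_add, show c + 1 + (c + 1) = q + 1 by omega, pow_succ, h, inv_mul_cancel₀ hl0]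
      · exact Or.inr (Or.inr (Or.inl (by rw [show q + 1 = 2 * (c + 1) by omega])))
  · obtain ⟨r, hr, hrl⟩ : ∃ r : E, (r = 1 ∨ r = -1) ∧ algebraMap E (AlgebraicClosure E) r = l := by
      rcases mul_self_eq_one_iff.1 hll with h | h
      · exact ⟨1, Or.inl rfl, by rw [map_one, h]⟩
      · exact ⟨-1, Or.inr rfl, by rw [map_neg, map_one, h]⟩
    have hr2 : r * r = 1 := by rcases hr with rfl | rfl <;> ring
    have hsq : (B - r • 1) * (B - r • 1) = 0 := by
      apply (show Function.Injective ((algebraMap E (AlgebraicClosure E)).mapMatrix (m := Fin 2)) from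
        fun X Y hXY => Matrix.ext fun i j => (algebraMap E (AlgebraicClosure E)).injective (congrFun (congrFun hXY i) j))
      rw [map_mul, map_zero, map_sub, RingHom.mapMatrix_apply, RingHom.mapMatrix_apply,
        show ((r • (1 : Matrix (Fin 2) (Fin 2) E)).map (algebraMap E (AlgebraicClosure E))) = l • 1 by
          ext i j; simp [Matrix.one_apply, apply_ite (algebraMap E (AlgebraicClosure E)), hrl]]
      exact hnil
    set N := r • B - 1 with hN
    have hN2 : N * N = 0 := by
      have : N = r • (B - r • 1) := by rw [hN, smul_sub, smul_smul, hr2, one_smul]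
      rw [this, smul_mul_assoc, mul_smul_comm, hsq, smul_zero, smul_zero]
    have hBN : B = r • (1 + N) := by rw [hN, add_sub_cancel, smul_smul, hr2, one_smul]
    have hτB : tens2 p E f B = tens2 p E f (1 + N) := by
      rw [hBN]
      rcases hr with rfl | rfl
      · rw [one_smul]
      · rw [neg_one_smul, ← neg_one_mul (1 + N), map_mul, tens2_neg, one_mul]
    have hnil3 : (tens2 p E f B - 1) ^ 3 = 0 := hτB ▸ tens2_nil p f N hN2
    haveI : CharP (Matrix (Fin 2 × Fin 2) (Fin 2 × Fin 2) E) p :=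
      charP_of_injective_algebraMap (algebraMap E (Matrix (Fin 2 × Fin 2) (Fin 2 × Fin 2) E)).injective p
    have hgg : (g : Matrix (Fin 2 × Fin 2) (Fin 2 × Fin 2) E) * (g : Matrix _ _ E) = tens2 p E f B := by
      rw [← Units.val_mul, ← pow_two, hg, outer_sq p f hE]; rfl
    refine ⟨2 * p, ?_, Or.inl ⟨?_, ?_⟩⟩
    · refine Units.ext ?_
      rw [pow_mul, Units.val_pow_eq_pow_val, pow_two, Units.val_mul, hgg, Units.val_one]
      have h0 : (tens2 p E f B - 1) ^ p = 0 := pow_eq_zero_of_le (by omega) hnil3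
      rwa [sub_pow_char_of_commute (p := p) (h := Commute.one_right _), one_pow, sub_eq_zero] at h0
    · refine Or.inr (Or.inr (Or.inl ?_))
      rw [mul_comm 2 p]
      exact mul_dvd_mul_left _ ⟨c + 1, by omega⟩
    · rw [sum_range_two_mul, hgg, geom_char p, pow_eq_zero_of_le (by omega) hnil3, mul_zero]

omit hE in
theorem single_pow_eigen {g : GL (Fin 2 × Fin 2) E} {i : Fin 2 × Fin 2} {c : E}
    (h : (g : Matrix (Fin 2 × Fin 2) (Fin 2 × Fin 2) E) *ᵥ Pi.single i 1 = c • Pi.single i 1) {n : ℕ}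
    (hn : g ^ n = 1) : c ^ n = 1 := by
  have hp : ∀ n : ℕ, ((g : Matrix (Fin 2 × Fin 2) (Fin 2 × Fin 2) E) ^ n) *ᵥ Pi.single i 1 =
      c ^ n • Pi.single i 1 := fun n => by
    induction n with
    | zero => rw [pow_zero, pow_zero, Matrix.one_mulVec, one_smul]
    | succ n ih => rw [pow_succ', ← Matrix.mulVec_mulVec, ih, Matrix.mulVec_smul, h, smul_smul, ← pow_succ]
  have h2 := congrFun (hp n) i
  rw [← Units.val_pow_eq_pow_val, hn, Units.val_one, Matrix.one_mulVec] at h2
  simpa using h2.symm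

/-- The outer elements of order `q ± 1` with fixed vectors. -/
theorem outer_small (h5 : 5 ≤ p) (hf : 0 < f) {m : ℕ} (hm : m = p ^ f - 1 ∨ m = p ^ f + 1) :
    ∃ g ∈ extGroup p f hE, ∃ v : Fin 2 × Fin 2 → E, v ≠ 0 ∧
      (g : Matrix (Fin 2 × Fin 2) (Fin 2 × Fin 2) E) *ᵥ v = v ∧ orderOf g = m := by
  classical
  have hpodd : Odd p := hp.out.eq_two_or_odd'.resolve_left (by omega)
  obtain ⟨c, hc⟩ : Odd (p ^ f) := hpodd.pow
  have hq0 : p ^ f ≠ 0 := pow_ne_zero _ hp.out.ne_zero
  obtain ⟨a, ha⟩ := IsCyclic.exists_generator (α := Eˣ)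
  have hao : orderOf a = (p ^ f + 1) * (p ^ f - 1) := by
    rw [orderOf_eq_card_of_forall_mem_zpowers ha, Nat.card_units, Nat.card_eq_fintype_card, hE, ← Nat.sq_sub_sq,
      one_pow]
  have ha0 : (a : E) ≠ 0 := a.ne_zero
  have hA : (Matrix.diagonal ![(a : E), (a : E)⁻¹]).det = 1 := by simp [Matrix.det_diagonal]
  rcases hm with rfl | rfl
  · let A : Matrix.SpecialLinearGroup (Fin 2) E := ⟨_, hA⟩
    set g := repGL (tens2 p E f) A * swapU with hg
    have hact : ∀ i : Fin 2 × Fin 2, (g : Matrix (Fin 2 × Fin 2) (Fin 2 × Fin 2) E) *ᵥ Pi.single i 1 =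
        (![(a : E), (a : E)⁻¹] i.2 * ![(a : E), (a : E)⁻¹] i.1 ^ p ^ f) • Pi.single i.swap 1 := by
      intro i
      rw [hg, Units.val_mul, ← Matrix.mulVec_mulVec]
      show tens2 p E f (Matrix.diagonal ![(a : E), (a : E)⁻¹]) *ᵥ (swapM *ᵥ _) = _
      rw [swap_mulVec, tens2_diag]
      funext j
      rw [Matrix.mulVec_diagonal, Pi.smul_apply, smul_eq_mul, Pi.single_apply]
      split_ifs with h
      · subst h; rfl
      · simp
    refine ⟨g, Or.inr ⟨A, rfl⟩, Pi.single (0, 1) 1 + ((a : E)⁻¹ * (a : E) ^ p ^ f) • Pi.single (1, 0) 1, ?_, ?_, ?_⟩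
    · intro h
      have := congrFun h (0, 1)
      simp at this
    · rw [Matrix.mulVec_add, Matrix.mulVec_smul, hact, hact, smul_smul]
      have e : ((a : E)⁻¹ * (a : E) ^ p ^ f) * ((a : E) * ((a : E)⁻¹) ^ p ^ f) = 1 := by
        rw [inv_pow]; field_simp
      simp only [Prod.swap_prod_mk, Matrix.cons_val_zero, Matrix.cons_val_one, Matrix.cons_val_fin_one]
      rw [e, one_smul, add_comm]
    · refine Nat.dvd_antisymm (orderOf_dvd_of_pow_eq_one ?_) ?_
      · rw [show p ^ f - 1 = 2 * c by omega, pow_mul, hg, outer_sq p f hE]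
        refine Units.ext ?_
        rw [Units.val_pow_eq_pow_val, repGL_val, ← map_pow, Units.val_one]
        refine tau_eq_one (data2 p) ?_
        show ((Matrix.diagonal ![(a : E), (a : E)⁻¹]) * frob p E f (Matrix.diagonal ![(a : E), (a : E)⁻¹])) ^ c = 1 ∨
          ((Matrix.diagonal ![(a : E), (a : E)⁻¹]) * frob p E f (Matrix.diagonal ![(a : E), (a : E)⁻¹])) ^ c = -1
        have hfr : frob p E f (Matrix.diagonal ![(a : E), (a : E)⁻¹]) =
            Matrix.diagonal (fun i => ![(a : E), (a : E)⁻¹] i ^ p ^ f) := by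
          ext i j
          rw [frob_apply, Matrix.diagonal_apply, Matrix.diagonal_apply]
          split_ifs with h
          · subst h; rfl
          · exact zero_pow hq0
        have hd : ((a : E) * (a : E) ^ p ^ f) ^ c = 1 ∨ ((a : E) * (a : E) ^ p ^ f) ^ c = -1 := by
          refine mul_self_eq_one_iff.1 ?_
          rw [← pow_add, ← two_mul, ← pow_succ', ← pow_mul, ← Units.val_pow_eq_pow_val,
            show 2 * c = p ^ f - 1 by omega, ← hao, pow_orderOf_eq_one, Units.val_one]
        rw [hfr, Matrix.diagonal_mul_diagonal, Matrix.diagonal_pow]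
        rcases hd with hd | hd
        · left
          rw [← Matrix.diagonal_one]
          congr 1; funext i; fin_cases i
          · simpa using hd
          · show ((a : E)⁻¹ * ((a : E)⁻¹) ^ p ^ f) ^ c = _
            rw [inv_pow, ← mul_inv, inv_pow, hd]
            simp
        · right
          rw [← Matrix.diagonal_one, Matrix.diagonal_neg]
          congr 1; funext i; fin_cases i
          · simpa using hd
          · show ((a : E)⁻¹ * ((a : E)⁻¹) ^ p ^ f) ^ c = _
            rw [inv_pow, ← mul_inv, inv_pow, hd]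
            simp
      · have h00 := hact (0, 0)
        simp only [Prod.swap_prod_mk, Matrix.cons_val_zero] at h00
        have h := single_pow_eigen h00 (pow_orderOf_eq_one g)
        rw [← pow_succ', ← pow_mul, ← Units.val_pow_eq_pow_val] at h
        have h' := orderOf_dvd_of_pow_eq_one (Units.ext h : a ^ ((p ^ f + 1) * orderOf g) = 1)
        rw [hao] at h'
        exact Nat.dvd_of_mul_dvd_mul_left (Nat.succ_pos _) h'
  · let W : Matrix (Fin 2) (Fin 2) E := !![0, (a : E); -(a : E)⁻¹, 0]
    have hW : W.det = 1 := by simp [W, Matrix.det_fin_two, ha0]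
    let A : Matrix.SpecialLinearGroup (Fin 2) E := ⟨W, hW⟩
    set g := repGL (tens2 p E f) A * swapU with hg
    have hact : ∀ i j : Fin 2 × Fin 2, ((g : Matrix (Fin 2 × Fin 2) (Fin 2 × Fin 2) E) *ᵥ Pi.single i 1) j =
        W j.1 i.2 * W j.2 i.1 ^ p ^ f := by
      intro i j
      rw [hg, Units.val_mul, ← Matrix.mulVec_mulVec]
      show (tens2 p E f W *ᵥ (swapM *ᵥ _)) j = _
      rw [swap_mulVec, tens2_mulVec]
      rfl
    have hneg : (-1 : E) ^ p ^ f = -1 := (hpodd.pow).neg_one_pow
    refine ⟨g, Or.inr ⟨A, rfl⟩, Pi.single (0, 0) 1 + ((a : E)⁻¹ * ((a : E)⁻¹) ^ p ^ f) • Pi.single (1, 1) 1,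
      ?_, ?_, ?_⟩
    · intro h
      have := congrFun h (0, 0)
      simp at this
    · funext j
      rw [Matrix.mulVec_add, Matrix.mulVec_smul, Pi.add_apply, Pi.smul_apply, hact, hact]
      obtain ⟨j1, j2⟩ := j
      fin_cases j1 <;> fin_cases j2 <;> simp [W, hp.out.ne_zero, neg_pow, hneg, inv_pow] <;> (try field_simp)
    · have hsq : g ^ 2 = repGL (tens2 p E f) (A * Matrix.SpecialLinearGroup.map (iterateFrobenius E p f) A) :=
        outer_sq p f hE A
      refine Nat.dvd_antisymm (orderOf_dvd_of_pow_eq_one ?_) ?_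
      · rw [show p ^ f + 1 = 2 * (c + 1) by omega, pow_mul, hsq]
        refine Units.ext ?_
        rw [Units.val_pow_eq_pow_val, repGL_val, ← map_pow, Units.val_one]
        refine tau_eq_one (data2 p) ?_
        show (W * frob p E f W) ^ (c + 1) = 1 ∨ (W * frob p E f W) ^ (c + 1) = -1
        set z := -((a : E) * ((a : E)⁻¹) ^ p ^ f) with hz
        have hWW : W * frob p E f W = Matrix.diagonal ![z, z⁻¹] := by
          ext i j
          rw [Matrix.mul_apply, Fin.sum_univ_two, frob_apply, frob_apply]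
          fin_cases i <;> fin_cases j <;> simp [W, z, hp.out.ne_zero, neg_pow, hneg, inv_pow, inv_neg] <;> (try field_simp)
        have hd : z ^ (c + 1) = 1 ∨ z ^ (c + 1) = -1 := by
          refine mul_self_eq_one_iff.1 ?_
          rw [← pow_add, show c + 1 + (c + 1) = 2 * (c + 1) by ring, hz, pow_mul, neg_sq, ← pow_mul,
            show 2 * (c + 1) = p ^ f + 1 by omega, mul_pow, inv_pow, inv_pow, ← pow_mul]
          rw [mul_inv_eq_one₀ (pow_ne_zero _ ha0), mul_add, mul_one, pow_add _ (p ^ f * p ^ f), ← pow_two, ← hE,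
            FiniteField.pow_card, pow_succ, mul_comm]
        rw [hWW, Matrix.diagonal_pow]
        rcases hd with hd | hd
        · left
          rw [← Matrix.diagonal_one]
          congr 1; funext i; fin_cases i
          · simpa using hd
          · simp [inv_pow, hd]
        · right
          rw [← Matrix.diagonal_one, Matrix.diagonal_neg]
          congr 1; funext i; fin_cases i
          · simpa using hd
          · simp [inv_pow, hd]
      · -- the order is even and a multiple of the order of the eigenvalue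
        have hdet : (g : Matrix (Fin 2 × Fin 2) (Fin 2 × Fin 2) E).det = -1 := by
          rw [hg, Units.val_mul, Matrix.det_mul]
          show (tens2 p E f W).det * (swapM : Matrix (Fin 2 × Fin 2) _ E).det = -1
          have h1 : (tens2 p E f W).det = 1 := by
            show (W ⊗ₖ (iterateFrobenius E p f).mapMatrix W).det = 1
            rw [Matrix.det_kronecker, ← RingHom.map_det, hW, map_one, one_pow, one_mul]
          rw [h1, one_mul, swapM, Matrix.det_permutation,
            show Equiv.Perm.sign (Equiv.prodComm (Fin 2) (Fin 2)) = -1 by decide]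
          simp
        have hn := pow_orderOf_eq_one g
        have heven : Even (orderOf g) := by
          by_contra h
          have h2 := congrArg (fun x : GL (Fin 2 × Fin 2) E => (x : Matrix (Fin 2 × Fin 2) _ E).det) hn
          simp only [Units.val_pow_eq_pow_val, Matrix.det_pow, hdet, Units.val_one, Matrix.det_one,
            (Nat.not_even_iff_odd.1 h).neg_one_pow] at h2
          haveI : Fact (2 < p) := ⟨by omega⟩
          exact CharP.neg_one_ne_one E p h2
        have h01 : (g : Matrix (Fin 2 × Fin 2) (Fin 2 × Fin 2) E) *ᵥ Pi.single (0, 1) 1 =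
            (-((a : E) * ((a : E)⁻¹) ^ p ^ f)) • Pi.single (0, 1) 1 := by
          funext j
          rw [hact]
          obtain ⟨j1, j2⟩ := j
          fin_cases j1 <;> fin_cases j2 <;> simp [W, hp.out.ne_zero, neg_pow, hneg, inv_pow] <;> (try field_simp)
        have h := single_pow_eigen h01 hn
        obtain ⟨d, hd⟩ := heven
        rw [neg_pow, Even.neg_one_pow ⟨d, hd⟩, one_mul, mul_pow, inv_pow, inv_pow, ← pow_mul,
          mul_inv_eq_one₀ (pow_ne_zero _ ha0), ← Units.val_pow_eq_pow_val, ← Units.val_pow_eq_pow_val,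
          Units.val_inj] at h
        have h' : a ^ ((p ^ f - 1) * orderOf g) = 1 := by
          rw [Nat.sub_mul, one_mul, pow_sub _ (Nat.le_mul_of_pos_left _ (Nat.pos_of_ne_zero hq0)), ← h,
            mul_inv_cancel]
        have h2 := orderOf_dvd_of_pow_eq_one h'
        rw [hao, mul_comm (p ^ f + 1)] at h2
        exact Nat.dvd_of_mul_dvd_mul_left (Nat.sub_pos_of_lt (Nat.one_lt_pow hf.ne' hp.out.one_lt)) h2

end Swap

end Cfsg.Agent.Spec4
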