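import Cfsg.Agent.Spec4.Semi

/-!
The signed deleted permutation module of `Sym(5)` over `GF(3)` (helper52).
-/

set_option autoImplicit false
set_option maxRecDepth 100000

namespace Cfsg.Agent.Spec4.Three

open Matrix

local notation "Z3" => ZMod 3

/-- A vector of `GF(3)^4` completed to sum zero. -/
def ext5 (x : Fin 4 → Z3) (i : Fin 5) : Z3 :=
  if h : (i : ℕ) < 4 then x ⟨i, h⟩ else -(∑ j, x j)

/-- The sign as a scalar. -/
def sgn (σ : Equiv.Perm (Fin 5)) : Z3 := ((Equiv.Perm.sign σ : ℤ) : Z3)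

theorem sum_ext5 (x : Fin 4 → Z3) : ∑ i, ext5 x i = 0 := by
  simp [Fin.sum_univ_five, Fin.sum_univ_four, ext5]

theorem ext5_restrict (y : Fin 5 → Z3) (hy : ∑ i, y i = 0) : ext5 (fun i => y i.castSucc) = y := by
  funext i
  rw [Fin.sum_univ_five] at hy
  fin_cases i <;> simp [ext5, Fin.sum_univ_four]
  linear_combination -hy

/-- The action. -/
def act (σ : Equiv.Perm (Fin 5)) : (Fin 4 → Z3) →ₗ[Z3] (Fin 4 → Z3) where
  toFun x i := sgn σ * ext5 x (σ⁻¹ i.castSucc)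
  map_add' x y := by
    funext i
    simp only [ext5, Pi.add_apply, Finset.sum_add_distrib]
    split_ifs <;> ring
  map_smul' c x := by
    funext i
    simp only [ext5, Pi.smul_apply, smul_eq_mul, RingHom.id_apply, ← Finset.mul_sum]
    split_ifs <;> ring

/-- The matrices. -/
def mx (σ : Equiv.Perm (Fin 5)) : Matrix (Fin 4) (Fin 4) Z3 :=
  Matrix.of fun i j => sgn σ * ext5 (fun k => if k = j then 1 else 0) (σ⁻¹ i.castSucc)

theorem mx_mulVec (σ : Equiv.Perm (Fin 5)) (x : Fin 4 → Z3) : mx σ *ᵥ x = act σ x := by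
  have h : mx σ = LinearMap.toMatrix' (act σ) := Matrix.ext fun i j => by
    rw [LinearMap.toMatrix'_apply]
    show sgn σ * ext5 _ _ = sgn σ * ext5 _ _
    congr 2
    funext k
    rw [Pi.single_apply]
  rw [h, LinearMap.toMatrix'_mulVec]

theorem mx_one : mx 1 = 1 := by decide +kernel

theorem mx_mul (σ τ : Equiv.Perm (Fin 5)) : mx (σ * τ) = mx σ * mx τ := by
  refine Matrix.ext_of_mulVec_single fun j => ?_
  rw [← Matrix.mulVec_mulVec, mx_mulVec, mx_mulVec, mx_mulVec]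
  set x : Fin 4 → Z3 := Pi.single j 1
  have hy : ∑ i, sgn τ * ext5 x (τ⁻¹ i) = 0 := by
    rw [← Finset.mul_sum, Equiv.sum_comp τ⁻¹ (ext5 x), sum_ext5, mul_zero]
  have e : ext5 (act τ x) = fun i => sgn τ * ext5 x (τ⁻¹ i) := ext5_restrict _ hy
  funext i
  show sgn (σ * τ) * ext5 x ((σ * τ)⁻¹ i.castSucc) = sgn σ * ext5 (act τ x) (σ⁻¹ i.castSucc)
  rw [e, sgn, sgn, sgn, map_mul, _root_.mul_inv_rev, Equiv.Perm.mul_apply]
  push_cast
  ring

/-- The representation. -/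
def hom : Equiv.Perm (Fin 5) →* GL (Fin 4) Z3 :=
  MonoidHom.toHomUnits { toFun := mx, map_one' := mx_one, map_mul' := mx_mul }

theorem hom_val (σ : Equiv.Perm (Fin 5)) : (hom σ : Matrix (Fin 4) (Fin 4) Z3) = mx σ := rfl

theorem check_up : ∀ σ : Equiv.Perm (Fin 5), ∃ N ∈ [5, 9, 12],
    σ ^ N = 1 ∧ ∀ i j, ∑ k ∈ Finset.range N, mx (σ ^ k) i j = 0 := by decide +kernel

theorem check_inj : ∀ σ : Equiv.Perm (Fin 5), mx σ = 1 → σ = 1 := by decide +kernel

def five : Equiv.Perm (Fin 5) := Equiv.swap 0 1 * Equiv.swap 1 2 * Equiv.swap 2 3 * Equiv.swap 3 4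
def three : Equiv.Perm (Fin 5) := Equiv.swap 0 1 * Equiv.swap 1 2
def four : Equiv.Perm (Fin 5) := Equiv.swap 0 1 * Equiv.swap 1 2 * Equiv.swap 2 3

theorem five_pow : five ^ 5 = 1 ∧ five ≠ 1 := by decide +kernel
theorem three_pow : three ^ 3 = 1 ∧ three ≠ 1 := by decide +kernel
theorem four_pow : four ^ 4 = 1 ∧ four ^ 2 ≠ 1 := by decide +kernel
theorem three_norm : ∃ i j, ∑ k ∈ Finset.range 3, mx (three ^ k) i j ≠ 0 := by decide +kernel
theorem four_norm : ∃ i j, ∑ k ∈ Finset.range 4, mx (four ^ k) i j ≠ 0 := by decide +kernel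

/-- Arbitrarily large groups with the element orders of `PSp₄(3)`. -/
theorem exists_groups (M : ℕ) : ∃ (H : Type) (_ : Group H) (_ : Fintype H), M < Fintype.card H ∧
    Set.range (orderOf : H → ℕ) = {d | ∃ n ∈ [5, 9, 12], d ∣ n} := by
  haveI : Fact (Nat.Prime 3) := ⟨Nat.prime_three⟩
  have hinj : Function.Injective hom := (injective_iff_map_eq_one hom).2 fun σ h =>
    check_inj σ (by rw [← hom_val, h, Units.val_one])
  have hsum : ∀ (σ : Equiv.Perm (Fin 5)) (N : ℕ) (i j : Fin 4),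
      (∑ k ∈ Finset.range N, (hom σ : Matrix (Fin 4) (Fin 4) Z3) ^ k) i j =
        ∑ k ∈ Finset.range N, mx (σ ^ k) i j := fun σ N i j => by
    rw [Matrix.sum_apply]
    refine Finset.sum_congr rfl fun k _ => ?_
    rw [← hom_val, map_pow, Units.val_pow_eq_pow_val]
  refine exists_family 3 hom.range {d : ℕ | ∃ n ∈ [5, 9, 12], d ∣ n}
    (fun {_ _} hm' hm => ⟨hm'.choose, hm'.choose_spec.1, hm.trans hm'.choose_spec.2⟩) ?_ ?_ M
  · rintro - ⟨σ, rfl⟩
    obtain ⟨N, hN, hσ, h0⟩ := check_up σ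
    refine ⟨N, by rw [← map_pow, hσ, map_one], Or.inl ⟨⟨N, hN, dvd_rfl⟩, ?_⟩⟩
    exact Matrix.ext fun i j => (hsum σ N i j).trans (h0 i j)
  · rintro m ⟨n, hn, hd⟩
    have hnorm : ∀ (σ : Equiv.Perm (Fin 5)) (k : ℕ), orderOf σ = k →
        (∃ i j, ∑ a ∈ Finset.range k, mx (σ ^ a) i j ≠ 0) → m ∣ 3 * k →
        ∃ g ∈ hom.range, ∃ v : Fin 4 → Z3,
          (∑ i ∈ Finset.range (orderOf g), (g : Matrix (Fin 4) (Fin 4) Z3) ^ i) *ᵥ v ≠ 0 ∧ m ∣ 3 * orderOf g := by
      rintro σ k hk ⟨i, j, hij⟩ hd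
      refine ⟨hom σ, ⟨σ, rfl⟩, Pi.single j 1, fun h => hij ?_, by rwa [orderOf_injective hom hinj, hk]⟩
      rw [orderOf_injective hom hinj, hk, Matrix.mulVec_single_one] at h
      exact (hsum σ k i j).symm.trans (congrFun h i)
    simp only [List.mem_cons, List.not_mem_nil, or_false] at hn
    rcases hn with rfl | rfl | rfl
    · haveI : Fact (Nat.Prime 5) := ⟨by norm_num⟩
      exact Or.inl ⟨hom five, ⟨five, rfl⟩, by
        rwa [orderOf_injective hom hinj, orderOf_eq_prime five_pow.1 five_pow.2]⟩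
    · exact Or.inr (hnorm three 3 (orderOf_eq_prime three_pow.1 three_pow.2) three_norm hd)
    · haveI : Fact (Nat.Prime 2) := ⟨Nat.prime_two⟩
      exact Or.inr (hnorm four 4 (orderOf_eq_prime_pow (p := 2) (n := 1) (by simpa using four_pow.2) four_pow.1)
        four_norm hd)

end Cfsg.Agent.Spec4.Three
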