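import Mathlib

/-!
Eigenvalues of elements of `SL₂` and tensor products of twisted natural modules (helper52).
-/

set_option autoImplicit false

namespace Cfsg.Agent.Spec4

open Matrix
open scoped Kronecker

section Eigen

variable {K : Type*} [Field K]

/-- An element of `SL₂` over an algebraically closed field is diagonalisable or a sign times a unipotent. -/
theorem sl2_cases [IsAlgClosed K] (A : Matrix (Fin 2) (Fin 2) K) (hA : A.det = 1) :
    ∃ l : K, l ≠ 0 ∧ l + l⁻¹ = A.trace ∧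
      ((l * l ≠ 1 ∧ ∃ P : GL (Fin 2) K, A = (P : Matrix (Fin 2) (Fin 2) K) * Matrix.diagonal ![l, l⁻¹] *
          ((P⁻¹ : GL (Fin 2) K) : Matrix (Fin 2) (Fin 2) K)) ∨
        (l * l = 1 ∧ (A - l • 1) * (A - l • 1) = 0)) := by
  obtain ⟨l, hl⟩ : ∃ l : K, l ^ 2 - A.trace * l + 1 = 0 := by
    obtain ⟨l, hl⟩ := IsAlgClosed.exists_root
      (Polynomial.X ^ 2 - Polynomial.C A.trace * Polynomial.X + 1 : Polynomial K) (by
        have : (Polynomial.X ^ 2 - Polynomial.C A.trace * Polynomial.X + 1 : Polynomial K).degree = 2 := by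
          compute_degree!
        rw [this]; norm_num)
    exact ⟨l, by simpa [Polynomial.IsRoot] using hl⟩
  have hl0 : l ≠ 0 := by rintro rfl; simp at hl
  have hsum : l + l⁻¹ = A.trace := by field_simp; linear_combination hl
  refine ⟨l, hl0, hsum, ?_⟩
  rw [Matrix.det_fin_two] at hA
  rw [Matrix.trace_fin_two] at hl hsum
  by_cases hll : l * l = 1
  · refine Or.inr ⟨hll, ?_⟩
    have hli : l⁻¹ = l := inv_eq_of_mul_eq_one_right hll
    rw [hli] at hsum
    ext i j
    fin_cases i <;> fin_cases j <;> simp [Matrix.mul_apply] <;> grind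
  · refine Or.inl ⟨hll, ?_⟩
    have hev : ∀ m : K, m ^ 2 - (A 0 0 + A 1 1) * m + 1 = 0 → ∃ v : Fin 2 → K, v ≠ 0 ∧ A *ᵥ v = m • v := by
      intro m hm
      obtain ⟨v, hv, hv0⟩ := (Matrix.exists_mulVec_eq_zero_iff (M := A - m • 1)).2 (by
        rw [Matrix.det_fin_two]; simp; linear_combination hm + hA)
      refine ⟨v, hv, ?_⟩
      rwa [Matrix.sub_mulVec, Matrix.smul_mulVec, Matrix.one_mulVec, sub_eq_zero] at hv0
    obtain ⟨v, hv, hAv⟩ := hev l hl
    obtain ⟨w, hw, hAw⟩ := hev l⁻¹ (by rw [← hsum]; field_simp; ring)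
    let P : Matrix (Fin 2) (Fin 2) K := Matrix.of fun i j => ![v i, w i] j
    have hdet : P.det ≠ 0 := by
      intro h
      obtain ⟨c, hc, hc0⟩ := Matrix.exists_mulVec_eq_zero_iff.2 h
      have h1 : c 0 • v + c 1 • w = 0 := by
        funext i
        have := congrFun hc0 i
        simp [P, Matrix.mulVec, dotProduct, Fin.sum_univ_two] at this
        simp; linear_combination this
      have h2 := congrArg (A *ᵥ ·) h1
      simp only [Matrix.mulVec_add, Matrix.mulVec_smul, hAv, hAw, Matrix.mulVec_zero] at h2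
      have h3 : (c 0 * (l - l⁻¹)) • v = 0 := by
        linear_combination (norm := module) h2 - l⁻¹ • h1
      rcases smul_eq_zero.1 h3 with h4 | h4
      · rcases mul_eq_zero.1 h4 with h5 | h5
        · rw [h5, zero_smul, zero_add] at h1
          rcases smul_eq_zero.1 h1 with h6 | h6
          · refine hc (funext fun i => ?_); fin_cases i <;> assumption
          · exact hw h6
        · refine hll ?_
          rw [sub_eq_zero] at h5
          nth_rewrite 1 [h5]
          exact inv_mul_cancel₀ hl0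
      · exact hv h4
    let U := Matrix.GeneralLinearGroup.mkOfDetNeZero P hdet
    refine ⟨U, ?_⟩
    have h : A * P = P * Matrix.diagonal ![l, l⁻¹] := by
      ext i j
      have hvi := congrFun hAv i
      have hwi := congrFun hAw i
      simp only [Matrix.mulVec, dotProduct, Fin.sum_univ_two, Pi.smul_apply, smul_eq_mul] at hvi hwi
      rw [Matrix.mul_diagonal, Matrix.mul_apply, Fin.sum_univ_two]
      fin_cases j <;> simp [P]
      · linear_combination hvi
      · linear_combination hwi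
    show A = P * _ * _
    rw [← h, mul_assoc, show P * ((U⁻¹ : GL (Fin 2) K) : Matrix (Fin 2) (Fin 2) K) = 1 from U.mul_inv, mul_one]

theorem conj_pow {ι : Type*} [Fintype ι] [DecidableEq ι] (P : GL ι K) (D : Matrix ι ι K) (n : ℕ) :
    ((P : Matrix ι ι K) * D * ((P⁻¹ : GL ι K) : Matrix ι ι K)) ^ n =
      (P : Matrix ι ι K) * D ^ n * ((P⁻¹ : GL ι K) : Matrix ι ι K) := by
  induction n with
  | zero => rw [pow_zero, pow_zero, mul_one, Units.mul_inv]
  | succ n ih =>
    rw [pow_succ, ih, pow_succ]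
    simp only [mul_assoc, Units.inv_mul_cancel_left]

end Eigen

section Tens

variable (p : ℕ) [hp : Fact p.Prime] (R : Type*) [CommRing R] [CharP R p]

/-- The entrywise `p^f` power. -/
abbrev frob (f : ℕ) : Matrix (Fin 2) (Fin 2) R →* Matrix (Fin 2) (Fin 2) R :=
  (iterateFrobenius R p f).mapMatrix.toMonoidHom

/-- Tensor product of two multiplicative families of matrices. -/
def kron {M : Type*} [Monoid M] {α β : Type*} [Fintype α] [DecidableEq α] [Fintype β] [DecidableEq β]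
    (a : M →* Matrix α α R) (b : M →* Matrix β β R) : M →* Matrix (α × β) (α × β) R where
  toFun x := a x ⊗ₖ b x
  map_one' := by rw [map_one, map_one, Matrix.one_kronecker_one]
  map_mul' x y := by rw [map_mul, map_mul, Matrix.mul_kronecker_mul]

/-- `V ⊗ V^(q)`, `q = p^f`. -/
def tens2 (f : ℕ) : Matrix (Fin 2) (Fin 2) R →* Matrix (Fin 2 × Fin 2) (Fin 2 × Fin 2) R :=
  kron R (MonoidHom.id _) (frob p R f)

/-- `V ⊗ V^(p) ⊗ V^(q) ⊗ V^(q)`. -/
def tens4 (f : ℕ) : Matrix (Fin 2) (Fin 2) R →*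
    Matrix ((Fin 2 × Fin 2) × (Fin 2 × Fin 2)) ((Fin 2 × Fin 2) × (Fin 2 × Fin 2)) R :=
  kron R (kron R (MonoidHom.id _) (frob p R 1)) (kron R (frob p R f) (frob p R f))

theorem frob_apply (f : ℕ) (A : Matrix (Fin 2) (Fin 2) R) (i j : Fin 2) :
    frob p R f A i j = A i j ^ p ^ f := iterateFrobenius_def ..

theorem tens2_apply (f : ℕ) (A : Matrix (Fin 2) (Fin 2) R) (i j : Fin 2 × Fin 2) :
    tens2 p R f A i j = A i.1 j.1 * A i.2 j.2 ^ p ^ f := by
  show A i.1 j.1 * frob p R f A i.2 j.2 = _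
  rw [frob_apply]

theorem tens4_apply (f : ℕ) (A : Matrix (Fin 2) (Fin 2) R) (i j : (Fin 2 × Fin 2) × (Fin 2 × Fin 2)) :
    tens4 p R f A i j = A i.1.1 j.1.1 * A i.1.2 j.1.2 ^ p * (A i.2.1 j.2.1 ^ p ^ f * A i.2.2 j.2.2 ^ p ^ f) := by
  show A i.1.1 j.1.1 * frob p R 1 A i.1.2 j.1.2 * (frob p R f A i.2.1 j.2.1 * frob p R f A i.2.2 j.2.2) = _
  rw [frob_apply, frob_apply, frob_apply, pow_one]

theorem tens2_diag (f : ℕ) (d : Fin 2 → R) :
    tens2 p R f (Matrix.diagonal d) = Matrix.diagonal fun i => d i.1 * d i.2 ^ p ^ f := by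
  ext ⟨a, b⟩ ⟨c, e⟩
  rw [tens2_apply, Matrix.diagonal_apply, Matrix.diagonal_apply, Matrix.diagonal_apply]
  have : p ^ f ≠ 0 := pow_ne_zero _ hp.out.ne_zero
  split_ifs <;> simp_all

theorem tens4_diag (f : ℕ) (d : Fin 2 → R) :
    tens4 p R f (Matrix.diagonal d) =
      Matrix.diagonal fun i => d i.1.1 * d i.1.2 ^ p * (d i.2.1 ^ p ^ f * d i.2.2 ^ p ^ f) := by
  ext ⟨⟨a, b⟩, c, e⟩ ⟨⟨a', b'⟩, c', e'⟩
  rw [tens4_apply]
  simp only [Matrix.diagonal_apply]
  have : p ^ f ≠ 0 := pow_ne_zero _ hp.out.ne_zero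
  have : p ≠ 0 := hp.out.ne_zero
  split_ifs <;> simp_all

theorem tens2_map {S : Type*} [CommRing S] [CharP S p] (φ : R →+* S) (f : ℕ) (A : Matrix (Fin 2) (Fin 2) R) :
    tens2 p S f (A.map φ) = (tens2 p R f A).map φ := by
  ext i j
  simp [tens2_apply]

theorem tens4_map {S : Type*} [CommRing S] [CharP S p] (φ : R →+* S) (f : ℕ) (A : Matrix (Fin 2) (Fin 2) R) :
    tens4 p S f (A.map φ) = (tens4 p R f A).map φ := by
  ext i j
  simp [tens4_apply]

end Tens

end Cfsg.Agent.Spec4
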