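import Cfsg.Agent.Spec4.Semi
import Cfsg.Agent.Spec4.SL2

/-!
The image of `SL₂(q²)` in a twisted tensor product, and the element orders it contributes (helper52).
-/

set_option autoImplicit false

namespace Cfsg.Agent.Spec4

open Matrix Polynomial

/-- The geometric sum of length the characteristic. -/
theorem geom_char {R : Type*} [Ring R] (p : ℕ) [hp : Fact p.Prime] [CharP R p] (g : R) :
    ∑ i ∈ Finset.range p, g ^ i = (g - 1) ^ (p - 1) := by
  have h : (∑ i ∈ Finset.range p, (X : (ZMod p)[X]) ^ i) = (X - 1) ^ (p - 1) := by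
    have hX : (X : (ZMod p)[X]) - 1 ≠ 0 := by
      rw [← C_1]; exact X_sub_C_ne_zero 1
    apply mul_right_cancel₀ hX
    rw [geom_sum_mul, ← pow_succ, Nat.sub_add_cancel hp.out.one_le, sub_pow_char, one_pow]
  letI : Algebra (ZMod p) R := ZMod.algebra R p
  simpa [map_sum] using congrArg (aeval g) h

section Inner

variable {ι E : Type} [Field E] [Fintype ι] [DecidableEq ι]

/-- The group homomorphism attached to a multiplicative family of matrices. -/
def repGL (τ : Matrix (Fin 2) (Fin 2) E →* Matrix ι ι E) : Matrix.SpecialLinearGroup (Fin 2) E →* GL ι E :=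
  (Units.map τ).comp Matrix.SpecialLinearGroup.toGL

theorem repGL_val (τ : Matrix (Fin 2) (Fin 2) E →* Matrix ι ι E) (A : Matrix.SpecialLinearGroup (Fin 2) E) :
    (repGL τ A : Matrix ι ι E) = τ (A : Matrix (Fin 2) (Fin 2) E) := rfl

/-- Data of a twisted tensor product for the fields with `q` and `q ^ 2` elements. -/
structure RepData (p q : ℕ) [Fintype E] (τ : Matrix (Fin 2) (Fin 2) E →* Matrix ι ι E) where
  τK : Matrix (Fin 2) (Fin 2) (AlgebraicClosure E) →* Matrix ι ι (AlgebraicClosure E)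
  hmap : ∀ A, τK (A.map (algebraMap E (AlgebraicClosure E))) = (τ A).map (algebraMap E (AlgebraicClosure E))
  val : AlgebraicClosure E → ι → AlgebraicClosure E
  hdiag : ∀ l, τK (Matrix.diagonal ![l, l⁻¹]) = Matrix.diagonal (val l)
  hneg : τ (-1) = 1
  fixed : ∀ l, l ≠ 0 → (l ^ q ^ 2 = l ∨ l ^ q ^ 2 = l⁻¹) → ∀ i, val l i = 1 →
    (l * l) ^ q = l * l ∨ (l * l) ^ q = (l * l)⁻¹
  faithful : ∀ l, l ≠ 0 → (∀ i, val l i = 1) → l * l = 1
  nil : 5 ≤ p → ∀ N : Matrix (Fin 2) (Fin 2) E, N * N = 0 → (τ (1 + N) - 1) ^ 3 = 0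

variable [Fintype E] {p q : ℕ} [hp : Fact p.Prime] {τ : Matrix (Fin 2) (Fin 2) E →* Matrix ι ι E}

theorem tau_eq_one (D : RepData p q τ) {A : Matrix (Fin 2) (Fin 2) E} (h : A = 1 ∨ A = -1) : τ A = 1 := by
  rcases h with rfl | rfl
  exacts [map_one τ, D.hneg]

theorem eigen_pow_card (hE : Fintype.card E = q ^ 2) {t : E} {l : AlgebraicClosure E} (hl : l ≠ 0)
    (h : l + l⁻¹ = algebraMap E _ t) : l ^ q ^ 2 = l ∨ l ^ q ^ 2 = l⁻¹ := by
  obtain ⟨r, hr⟩ := CharP.exists E
  haveI := hr
  haveI : Fact r.Prime := ⟨CharP.char_is_prime E r⟩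
  obtain ⟨f, -, hf⟩ := FiniteField.card E r
  haveI : CharP (AlgebraicClosure E) r := charP_of_injective_algebraMap (algebraMap E _).injective r
  have h2 : l ^ q ^ 2 + (l ^ q ^ 2)⁻¹ = l + l⁻¹ := by
    have := congrArg (· ^ r ^ (f : ℕ)) h
    rw [add_pow_char_pow, inv_pow, ← map_pow, ← hf, FiniteField.pow_card, hE] at this
    rw [this, h]
  have h0 : l ^ q ^ 2 ≠ 0 := pow_ne_zero _ hl
  have h3 : (l ^ q ^ 2 - l) * (l ^ q ^ 2 * l - 1) = 0 := by
    field_simp at h2
    linear_combination h2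
  rcases mul_eq_zero.1 h3 with h4 | h4
  · exact Or.inl (sub_eq_zero.1 h4)
  · exact Or.inr (eq_inv_of_mul_eq_one_left (sub_eq_zero.1 h4))

/-- From diagonal form over the closure to powers. -/
theorem pow_pm_of_diag {A : Matrix (Fin 2) (Fin 2) E} {l : AlgebraicClosure E} (hl : l ≠ 0)
    {P : GL (Fin 2) (AlgebraicClosure E)}
    (hA : A.map (algebraMap E (AlgebraicClosure E)) =
      (P : Matrix (Fin 2) (Fin 2) _) * Matrix.diagonal ![l, l⁻¹] *
        ((P⁻¹ : GL (Fin 2) (AlgebraicClosure E)) : Matrix (Fin 2) (Fin 2) _))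
    {n : ℕ} (h : l ^ n * l ^ n = 1) : A ^ n = 1 ∨ A ^ n = -1 := by
  have hinj : Function.Injective ((algebraMap E (AlgebraicClosure E)).mapMatrix (m := Fin 2)) :=
    fun X Y hXY => Matrix.ext fun i j => (algebraMap E (AlgebraicClosure E)).injective (congrFun (congrFun hXY i) j)
  have hcase : ∀ c : E, (c = 1 ∨ c = -1) → l ^ n = algebraMap E _ c → A ^ n = c • 1 := by
    intro c hc hln
    apply hinj
    rw [map_pow, RingHom.mapMatrix_apply, hA, conj_pow, Matrix.diagonal_pow, RingHom.mapMatrix_apply]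
    have : (![l, l⁻¹] : Fin 2 → AlgebraicClosure E) ^ n = fun _ => algebraMap E _ c := by
      funext i
      fin_cases i
      · simpa using hln
      · simp only [Pi.pow_apply, Fin.mk_one, Matrix.cons_val_one, Matrix.cons_val_fin_one, inv_pow, hln]
        rcases hc with rfl | rfl <;> simp
    rw [this, ← Matrix.smul_one_eq_diagonal, mul_smul_comm, mul_one, smul_mul_assoc, Units.mul_inv]
    ext i j
    simp [Matrix.one_apply, apply_ite (algebraMap E (AlgebraicClosure E))]
  rcases mul_self_eq_one_iff.1 h with h | h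
  · left; rw [hcase 1 (Or.inl rfl) (by rw [map_one, h]), one_smul]
  · right; rw [hcase (-1) (Or.inr rfl) (by rw [map_neg, map_one, h]), neg_one_smul]

/-- The inner elements stay within the list. -/
theorem inner_upper [CharP E p] (D : RepData p q τ) {f : ℕ} (hf : 0 < f) (hq : q = p ^ f)
    (hE : Fintype.card E = q ^ 2) (A : Matrix.SpecialLinearGroup (Fin 2) E) :
    ∃ N, repGL τ A ^ N = 1 ∧ ((N ∈ spec4 q p ∧ ∑ i ∈ Finset.range N, (repGL τ A : Matrix ι ι E) ^ i = 0) ∨
      p * N ∈ spec4 q p) := by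
  classical
  set B : Matrix (Fin 2) (Fin 2) E := (A : Matrix (Fin 2) (Fin 2) E) with hB
  have hone : ∀ N, (B ^ N = 1 ∨ B ^ N = -1) → repGL τ A ^ N = 1 := fun N h => Units.ext (by
    rw [Units.val_pow_eq_pow_val, repGL_val, ← map_pow, ← hB, Units.val_one]
    exact tau_eq_one D h)
  obtain ⟨l, hl0, htr, hcase⟩ := sl2_cases (B.map (algebraMap E (AlgebraicClosure E))) (by
    rw [← RingHom.mapMatrix_apply, ← RingHom.map_det, A.det_coe, map_one])
  have hfrob := eigen_pow_card (t := B.trace) hE hl0 (by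
    rw [htr, Matrix.trace_fin_two, Matrix.trace_fin_two, map_add]; rfl)
  rcases hcase with ⟨hll, P, hP⟩ | ⟨hll, hnil⟩
  · by_cases hfix : ∃ i, D.val l i = 1
    · obtain ⟨i, hi⟩ := hfix
      have hq1 : 1 ≤ q := hq ▸ Nat.one_le_pow _ _ hp.out.pos
      rcases D.fixed l hl0 hfrob i hi with h | h
      · refine ⟨q - 1, hone _ (pow_pm_of_diag hl0 hP ?_), Or.inr (Or.inr (Or.inr (Or.inr (Or.inl dvd_rfl))))⟩
        refine mul_right_cancel₀ (mul_ne_zero hl0 hl0) ?_
        rw [← mul_pow, one_mul, ← pow_succ, Nat.sub_add_cancel hq1, h]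
      · refine ⟨q + 1, hone _ (pow_pm_of_diag hl0 hP ?_), Or.inr (Or.inr (Or.inr (Or.inl dvd_rfl)))⟩
        rw [← mul_pow, pow_succ, h, inv_mul_cancel₀ (mul_ne_zero hl0 hl0)]
    · push_neg at hfix
      have hunit : IsUnit ((repGL τ A : Matrix ι ι E) - 1) := by
        rw [Matrix.isUnit_iff_isUnit_det, isUnit_iff_ne_zero, repGL_val, ← hB]
        intro h0
        have h1 := congrArg (algebraMap E (AlgebraicClosure E)) h0
        rw [map_zero, RingHom.map_det, map_sub, map_one, RingHom.mapMatrix_apply, ← D.hmap, hP, map_mul, map_mul,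
          D.hdiag] at h1
        set U := Units.map D.τK P with hU
        have e : D.τK (P : Matrix (Fin 2) (Fin 2) _) * Matrix.diagonal (D.val l) *
            D.τK ((P⁻¹ : GL (Fin 2) (AlgebraicClosure E)) : Matrix (Fin 2) (Fin 2) _) - 1 =
            (U : Matrix ι ι _) * (Matrix.diagonal (D.val l) - 1) * ((U⁻¹ : GL ι (AlgebraicClosure E)) : Matrix ι ι (AlgebraicClosure E)) := by
          rw [mul_sub, sub_mul, mul_one, Units.mul_inv]
          rfl
        rw [e, Matrix.det_units_conj, ← Matrix.diagonal_one, Matrix.diagonal_sub, Matrix.det_diagonal,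
          Finset.prod_eq_zero_iff] at h1
        obtain ⟨i, -, hi⟩ := h1
        exact hfix i (sub_eq_zero.1 hi)
      have hsum : ∀ N, repGL τ A ^ N = 1 → ∑ i ∈ Finset.range N, (repGL τ A : Matrix ι ι E) ^ i = 0 := fun N h =>
        geom_zero (by rw [← Units.val_pow_eq_pow_val, h, Units.val_one]) hunit
      have key : ∀ n N : ℕ, l ^ n = 1 → n ∣ 2 * N → N ∈ spec4 q p →
          ∃ N, repGL τ A ^ N = 1 ∧ ((N ∈ spec4 q p ∧ ∑ i ∈ Finset.range N, (repGL τ A : Matrix ι ι E) ^ i = 0) ∨
            p * N ∈ spec4 q p) := fun n N hn hdvd hN => by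
        have h := hone N (pow_pm_of_diag hl0 hP (by
          obtain ⟨c, hc⟩ := hdvd
          rw [← pow_add, ← two_mul, hc, pow_mul, hn, one_pow]))
        exact ⟨N, h, Or.inl ⟨hN, hsum N h⟩⟩
      have hh := half_mul hp.out hf hq
      rcases hfrob with h | h
      · refine key (q ^ 2 - 1) (half q (q ^ 2 - 1)) ?_ ?_ (Or.inr (Or.inl dvd_rfl))
        · refine mul_right_cancel₀ hl0 ?_
          rw [one_mul, ← pow_succ, Nat.sub_add_cancel (hE ▸ Fintype.card_pos), h]
        · rcases hh with ⟨-, -, hb⟩ | ⟨-, -, -, hb⟩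
          · rw [hb]; exact dvd_mul_left _ _
          · rw [hb]
      · refine key (q ^ 2 + 1) (half q (q ^ 2 + 1)) ?_ ?_ (Or.inl dvd_rfl)
        · rw [pow_succ, h, inv_mul_cancel₀ hl0]
        · rcases hh with ⟨-, ha, -⟩ | ⟨-, -, ha, -⟩
          · rw [ha]; exact dvd_mul_left _ _
          · rw [ha]
  · -- sign times unipotent
    obtain ⟨r, hr, hrl⟩ : ∃ r : E, (r = 1 ∨ r = -1) ∧ algebraMap E (AlgebraicClosure E) r = l := by
      rcases mul_self_eq_one_iff.1 hll with h | h
      · exact ⟨1, Or.inl rfl, by rw [map_one, h]⟩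
      · exact ⟨-1, Or.inr rfl, by rw [map_neg, map_one, h]⟩
    have hr2 : r * r = 1 := by rcases hr with rfl | rfl <;> ring
    have hsq : (B - r • 1) * (B - r • 1) = 0 := by
      apply (show Function.Injective ((algebraMap E (AlgebraicClosure E)).mapMatrix (m := Fin 2)) from
        fun X Y hXY => Matrix.ext fun i j => (algebraMap E (AlgebraicClosure E)).injective (congrFun (congrFun hXY i) j))
      rw [map_mul, map_zero, map_sub, RingHom.mapMatrix_apply, RingHom.mapMatrix_apply,
        show ((r • (1 : Matrix (Fin 2) (Fin 2) E)).map (algebraMap E (AlgebraicClosure E))) = l • 1 by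
          ext i j; simp [Matrix.one_apply, apply_ite (algebraMap E (AlgebraicClosure E)), hrl]]
      exact hnil
    set N := r • B - 1 with hN
    have hN2 : N * N = 0 := by
      have : N = r • (B - r • 1) := by rw [hN, smul_sub, smul_smul, hr2, one_smul]
      rw [this, smul_mul_assoc, mul_smul_comm, hsq, smul_zero, smul_zero]
    have hBN : B = r • (1 + N) := by rw [hN, add_sub_cancel, smul_smul, hr2, one_smul]
    have hNp : B ^ p = 1 ∨ B ^ p = -1 := by
      have h : (1 + N) ^ p = 1 := by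
        rw [add_pow_char_of_commute (p := p) (h := Commute.one_left N), one_pow,
          pow_eq_zero_of_le hp.out.two_le (by rw [pow_two, hN2]), add_zero]
      rw [hBN, _root_.smul_pow, h]
      rcases hr with rfl | rfl
      · left; rw [one_pow, one_smul]
      · rcases neg_one_pow_eq_or E p with h' | h' <;> rw [h']
        · left; rw [one_smul]
        · right; rw [neg_one_smul]
    refine ⟨p, hone p hNp, ?_⟩
    rcases le_or_gt p 3 with h3 | h3
    · exact Or.inr (Or.inr (Or.inr (Or.inr (Or.inr ⟨h3, by rw [pow_two]⟩))))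
    · have h5 : 5 ≤ p := by
        rcases Nat.lt_or_ge p 5 with h | h
        · interval_cases p; exact absurd hp.out (by norm_num)
        · exact h
      refine Or.inl ⟨Or.inr (Or.inr (Or.inl (dvd_mul_right _ _))), ?_⟩
      haveI : Nonempty ι ∨ IsEmpty ι := (isEmpty_or_nonempty ι).symm
      rcases isEmpty_or_nonempty ι with hι | hι
      · exact Subsingleton.elim _ _
      haveI : CharP (Matrix ι ι E) p :=
        charP_of_injective_algebraMap (algebraMap E (Matrix ι ι E)).injective p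
      rw [geom_char p, repGL_val, ← hB]
      have hτB : τ B = τ (1 + N) := by
        rw [hBN]
        rcases hr with rfl | rfl
        · rw [one_smul]
        · rw [neg_one_smul, ← neg_one_mul (1 + N), map_mul, D.hneg, one_mul]
      rw [hτB]
      exact pow_eq_zero_of_le (by omega) (D.nil h5 N hN2)

theorem faithful_pow (D : RepData p q τ) {A : Matrix.SpecialLinearGroup (Fin 2) E} {l : AlgebraicClosure E}
    (hl : l ≠ 0) {P : GL (Fin 2) (AlgebraicClosure E)}
    (hA : (A : Matrix (Fin 2) (Fin 2) E).map (algebraMap E (AlgebraicClosure E)) =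
      (P : Matrix (Fin 2) (Fin 2) _) * Matrix.diagonal ![l, l⁻¹] *
        ((P⁻¹ : GL (Fin 2) (AlgebraicClosure E)) : Matrix (Fin 2) (Fin 2) _))
    {n : ℕ} (h : repGL τ A ^ n = 1) : l ^ n * l ^ n = 1 := by
  refine D.faithful _ (pow_ne_zero _ hl) fun i => ?_
  have h1 : (τ ((A : Matrix (Fin 2) (Fin 2) E) ^ n)).map (algebraMap E (AlgebraicClosure E)) = 1 := by
    rw [map_pow, ← repGL_val, ← Units.val_pow_eq_pow_val, h, Units.val_one, Matrix.map_one _ (map_zero _) (map_one _)]
  rw [← D.hmap, ← RingHom.mapMatrix_apply, map_pow, RingHom.mapMatrix_apply, hA, conj_pow, Matrix.diagonal_pow,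
    map_mul, map_mul] at h1
  have hd : (![l, l⁻¹] : Fin 2 → AlgebraicClosure E) ^ n = ![l ^ n, (l ^ n)⁻¹] := by
    funext j; fin_cases j <;> simp [inv_pow]
  rw [hd, D.hdiag] at h1
  set U := Units.map D.τK P with hU
  have h2 : Matrix.diagonal (D.val (l ^ n)) = 1 := by
    have := congrArg (fun M => ((U⁻¹ : GL ι (AlgebraicClosure E)) : Matrix ι ι (AlgebraicClosure E)) * M * (U : Matrix ι ι _)) h1
    simp only [mul_one, Units.inv_mul] at this
    rw [← this]
    show _ = ((U⁻¹ : GL ι (AlgebraicClosure E)) : Matrix ι ι (AlgebraicClosure E)) * ((U : Matrix ι ι _) * _ * ((U⁻¹ : GL ι (AlgebraicClosure E)) : Matrix ι ι (AlgebraicClosure E))) * _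
    simp only [mul_assoc, Units.inv_mul_cancel_left, Units.inv_mul, mul_one]
  have := congrFun (congrFun h2 i) i
  simpa using this

/-- Elements of order `(q² ± 1) / (2, q - 1)`. -/
theorem inner_big [CharP E p] (D : RepData p q τ) {f : ℕ} (hf : 0 < f) (hq : q = p ^ f) (hq3 : 3 < q)
    (hE : Fintype.card E = q ^ 2) {n : ℕ} (hn : n = q ^ 2 + 1 ∨ n = q ^ 2 - 1) :
    ∃ A, half q n ∣ orderOf (repGL τ A) := by
  classical
  obtain ⟨⟨x, hx⟩, y, hy⟩ := KS58.SpEl.exists_sl2_torus E
  obtain ⟨A, hA⟩ : ∃ A : Matrix.SpecialLinearGroup (Fin 2) E, orderOf A = n := by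
    rcases hn with rfl | rfl
    · exact ⟨y, by rw [hy, hE]⟩
    · exact ⟨x, by rw [hx, hE]⟩
  refine ⟨A, ?_⟩
  obtain ⟨l, hl0, -, hcase⟩ := sl2_cases ((A : Matrix (Fin 2) (Fin 2) E).map (algebraMap E (AlgebraicClosure E))) (by
    rw [← RingHom.mapMatrix_apply, ← RingHom.map_det, A.det_coe, map_one])
  have hA2 : ∀ j, ((A : Matrix (Fin 2) (Fin 2) E) ^ j = 1 ∨ (A : Matrix (Fin 2) (Fin 2) E) ^ j = -1) →
      n ∣ 2 * j := fun j h => by
    rw [← hA]
    refine orderOf_dvd_of_pow_eq_one (Subtype.ext ?_)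
    rw [Matrix.SpecialLinearGroup.coe_pow, Matrix.SpecialLinearGroup.coe_one, mul_comm, pow_mul]
    rcases h with h | h <;> simp [h]
  rcases hcase with ⟨-, P, hP⟩ | ⟨hll, hnil⟩
  · set j := orderOf (repGL τ A) with hj
    have h2 := hA2 j (pow_pm_of_diag hl0 hP (faithful_pow D hl0 hP (pow_orderOf_eq_one _)))
    rcases half_mul hp.out hf hq with ⟨h, ha, hb⟩ | ⟨-, -, ha, hb⟩
    · have hev : Even (q ^ 2) := by
        rw [hq, h]; exact (Nat.even_pow' two_ne_zero).2 ((Nat.even_pow' hf.ne').2 even_two)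
      have hodd : Odd n := by
        rcases hn with rfl | rfl
        · exact hev.add_one
        · exact Nat.Even.sub_odd (hE ▸ Fintype.card_pos) hev odd_one
      rw [show half q n = n by rcases hn with rfl | rfl <;> assumption]
      exact (Nat.coprime_two_right.2 hodd).dvd_of_dvd_mul_left h2
    · refine Nat.dvd_of_mul_dvd_mul_left two_pos ?_
      rwa [show 2 * half q n = n by rcases hn with rfl | rfl <;> assumption]
  · -- impossible: the order would divide `2p`
    exfalso
    have h1 : (A : Matrix (Fin 2) (Fin 2) E) ^ (2 * p) = 1 := by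
      have hl1 : (l • (1 : Matrix (Fin 2) (Fin 2) (AlgebraicClosure E))) ^ (2 * p) = 1 := by
        rw [_root_.smul_pow, one_pow, pow_mul, pow_two, hll, one_pow, one_smul]
      haveI : CharP (AlgebraicClosure E) p := charP_of_injective_algebraMap (algebraMap E _).injective p
      have h0 := pow_eq_zero_of_le hp.out.two_le (show ((A : Matrix (Fin 2) (Fin 2) E).map
        (algebraMap E (AlgebraicClosure E)) - l • 1) ^ 2 = 0 by rw [pow_two]; exact hnil)
      rw [sub_pow_char_of_commute (p := p) (h := (Commute.one_right _).smul_right l), sub_eq_zero] at h0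
      apply (show Function.Injective ((algebraMap E (AlgebraicClosure E)).mapMatrix (m := Fin 2)) from
        fun X Y hXY => Matrix.ext fun i j => (algebraMap E (AlgebraicClosure E)).injective (congrFun (congrFun hXY i) j))
      rw [map_pow, map_one, RingHom.mapMatrix_apply, mul_comm, pow_mul, h0, ← pow_mul, mul_comm, hl1]
    have h2 : n ∣ 2 * p := hA ▸ orderOf_dvd_of_pow_eq_one (Subtype.ext (by
      rw [Matrix.SpecialLinearGroup.coe_pow, h1, Matrix.SpecialLinearGroup.coe_one]))
    have h3 := Nat.le_of_dvd (Nat.mul_pos two_pos hp.out.pos) h2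
    have h4 : p ≤ q := hq ▸ Nat.le_self_pow hf.ne' p
    have h5 : 4 * q ≤ q ^ 2 := by rw [pow_two]; exact Nat.mul_le_mul_right q hq3
    omega

/-- Elements of order `q ± 1` with a fixed vector. -/
theorem inner_small [CharP E p] (D : RepData p q τ) {c : ℕ} (b : Eˣ) (hb : orderOf (b * b) = c)
    (v : ι → E) (hv : v ≠ 0)
    (hfix : τ (Matrix.diagonal ![(b : E), (b : E)⁻¹]) *ᵥ v = v) :
    ∃ A, orderOf (repGL τ A) = c ∧ (repGL τ A : Matrix ι ι E) *ᵥ v = v := by
  classical
  let A : Matrix.SpecialLinearGroup (Fin 2) E :=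
    ⟨Matrix.diagonal ![(b : E), (b : E)⁻¹], by simp [Matrix.det_diagonal]⟩
  refine ⟨A, ?_, hfix⟩
  have hmapA : (A : Matrix (Fin 2) (Fin 2) E).map (algebraMap E (AlgebraicClosure E)) =
      ((1 : GL (Fin 2) (AlgebraicClosure E)) : Matrix (Fin 2) (Fin 2) _) *
        Matrix.diagonal ![algebraMap E _ (b : E), (algebraMap E _ (b : E))⁻¹] *
        (((1 : GL (Fin 2) (AlgebraicClosure E))⁻¹ : GL (Fin 2) (AlgebraicClosure E)) : Matrix (Fin 2) (Fin 2) _) := by
    rw [inv_one, Units.val_one, one_mul, mul_one]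
    show (Matrix.diagonal _).map _ = _
    rw [Matrix.diagonal_map (map_zero _)]
    congr 1
    funext i; fin_cases i <;> simp
  have hb0 : algebraMap E (AlgebraicClosure E) (b : E) ≠ 0 := by simp
  refine Nat.dvd_antisymm (orderOf_dvd_of_pow_eq_one (Units.ext ?_)) ?_
  · rw [Units.val_pow_eq_pow_val, repGL_val, ← map_pow, Units.val_one]
    refine tau_eq_one D (pow_pm_of_diag hb0 hmapA ?_)
    rw [← mul_pow, ← map_mul, ← map_pow, ← Units.val_mul, ← Units.val_pow_eq_pow_val, ← hb, pow_orderOf_eq_one,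
      Units.val_one, map_one]
  · have h := faithful_pow D hb0 hmapA (pow_orderOf_eq_one (repGL τ A))
    rw [← mul_pow, ← map_mul, ← map_pow, ← map_one (algebraMap E (AlgebraicClosure E))] at h
    have h2 := (algebraMap E (AlgebraicClosure E)).injective h
    rw [← hb]
    exact orderOf_dvd_of_pow_eq_one (Units.ext (by rw [Units.val_pow_eq_pow_val, Units.val_mul, h2, Units.val_one]))

end Inner

end Cfsg.Agent.Spec4
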